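import Groth.Agent.Lib.GradedAlg.Basic

/-!
# The homogeneous prime spectrum and the irrelevant ideal
-/

open DirectSum AlgebraicGeometry

namespace GrothLib.GradedAlg

variable {R A : Type*} [CommRing R] [CommRing A] [Algebra R A] (𝒜 : ℕ → Submodule R A)
  [GradedAlgebra 𝒜]

/-- `S₊ ⊓ √I` consists of the elements of `S₊` lying in every relevant homogeneous prime over `I`. -/
theorem mem_radical_of_forall_mem {I : Ideal A} (hI : I.IsHomogeneous 𝒜) {f : A}
    (hf : f ∈ (HomogeneousIdeal.irrelevant 𝒜).toIdeal)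
    (h : ∀ x : ProjectiveSpectrum 𝒜, I ≤ x.asHomogeneousIdeal.toIdeal →
      f ∈ x.asHomogeneousIdeal.toIdeal) : f ∈ I.radical := by
  rw [hI.radical_eq, Ideal.mem_sInf]
  rintro J ⟨hJ, hIJ, hJp⟩
  by_cases hrel : HomogeneousIdeal.irrelevant 𝒜 ≤ (⟨J, hJ⟩ : HomogeneousIdeal 𝒜)
  · exact hrel hf
  · exact h ⟨⟨J, hJ⟩, hJp, hrel⟩ hIJ

theorem exists_mem_irrelevant_notMem (x : ProjectiveSpectrum 𝒜) :
    ∃ f ∈ (HomogeneousIdeal.irrelevant 𝒜).toIdeal, f ∉ x.asHomogeneousIdeal.toIdeal :=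
  Set.not_subset.mp x.not_irrelevant_le

theorem isEmpty_iff_nilpotent :
    IsEmpty (ProjectiveSpectrum 𝒜) ↔
      ∀ f ∈ (HomogeneousIdeal.irrelevant 𝒜).toIdeal, IsNilpotent f := by
  constructor
  · intro h f hf
    have := mem_radical_of_forall_mem 𝒜 (Ideal.IsHomogeneous.bot 𝒜) hf
      (fun x _ => isEmptyElim x)
    rw [← mem_nilradical]
    exact this
  · refine fun h => ⟨fun x => ?_⟩
    obtain ⟨f, hf, hfx⟩ := exists_mem_irrelevant_notMem 𝒜 x
    exact hfx (nilradical_le_prime (H := x.isPrime) _ (mem_nilradical.mpr (h f hf)))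

theorem isEmpty_iff_eventually_bot (hfg : (HomogeneousIdeal.irrelevant 𝒜).toIdeal.FG) :
    IsEmpty (ProjectiveSpectrum 𝒜) ↔ ∃ n : ℕ, ∀ k : ℕ, n ≤ k → 𝒜 k = ⊥ := by
  rw [isEmpty_iff_nilpotent]
  constructor
  · intro h
    have hle : (HomogeneousIdeal.irrelevant 𝒜).toIdeal ≤ Ideal.radical ⊥ := fun f hf =>
      mem_nilradical.mpr (h f hf)
    obtain ⟨n, hn⟩ := Ideal.exists_pow_le_of_le_radical_of_fg hle hfg
    have := finiteType_of_irrelevant_fg 𝒜 hfg
    obtain ⟨m₀, hm₀⟩ := mem_irrelevant_pow 𝒜 n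
    exact ⟨m₀, fun k hk => (Submodule.eq_bot_iff _).mpr fun a ha => by
      simpa using hn (hm₀ k hk a ha)⟩
  · rintro ⟨n, hn⟩ f hf
    have hle : (HomogeneousIdeal.irrelevant 𝒜).toIdeal ≤ nilradical A := by
      rw [HomogeneousIdeal.irrelevant_eq_span, Ideal.span_le]
      intro a ha
      obtain ⟨i, hi, hai⟩ := Set.mem_iUnion₂.mp ha
      refine mem_nilradical.mpr ⟨n, ?_⟩
      have hmem := SetLike.pow_mem_graded n hai
      rw [hn (n • i) (by rw [smul_eq_mul]; exact Nat.le_mul_of_pos_right n hi)] at hmem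
      simpa using hmem
    exact mem_nilradical.mp (hle hf)

theorem irrelevant_inf_vanishingIdeal_zeroLocus (E : Set A) :
    (HomogeneousIdeal.irrelevant 𝒜).toIdeal ⊓
        (ProjectiveSpectrum.vanishingIdeal (ProjectiveSpectrum.zeroLocus 𝒜 E)).toIdeal =
      (HomogeneousIdeal.irrelevant 𝒜).toIdeal ⊓
        (Ideal.homogeneousHull 𝒜 (Ideal.span E)).toIdeal.radical := by
  ext f
  simp only [Submodule.mem_inf]
  refine and_congr_right fun hf => ⟨fun h => ?_, fun h => ?_⟩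
  · refine mem_radical_of_forall_mem 𝒜 (HomogeneousIdeal.isHomogeneous _) hf fun x hx => ?_
    refine (ProjectiveSpectrum.mem_vanishingIdeal _ f).mp h x ?_
    rw [ProjectiveSpectrum.mem_zeroLocus]
    exact fun e he => hx (Ideal.le_toIdeal_homogeneousHull 𝒜 _ (Ideal.subset_span he))
  · refine (ProjectiveSpectrum.mem_vanishingIdeal _ f).mpr fun x hx => ?_
    have h1 : Ideal.homogeneousHull 𝒜 (Ideal.span E) ≤ x.asHomogeneousIdeal := by
      rw [← HomogeneousIdeal.homogeneousHull_toIdeal_eq_self x.asHomogeneousIdeal]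
      exact Ideal.homogeneousHull_mono 𝒜 (Ideal.span_le.mpr hx)
    exact x.isPrime.radical_le_iff.mpr h1 h

theorem isIrreducible_iff_relevant_prime (Z : Set (ProjectiveSpectrum 𝒜)) (hZ : IsClosed Z) :
    IsIrreducible Z ↔
      (¬ (HomogeneousIdeal.irrelevant 𝒜).toIdeal ≤ (ProjectiveSpectrum.vanishingIdeal Z).toIdeal ∧
        ∀ f ∈ (HomogeneousIdeal.irrelevant 𝒜).toIdeal, ∀ g ∈ (HomogeneousIdeal.irrelevant 𝒜).toIdeal,
          f * g ∈ (ProjectiveSpectrum.vanishingIdeal Z).toIdeal →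
            f ∈ (ProjectiveSpectrum.vanishingIdeal Z).toIdeal ∨
              g ∈ (ProjectiveSpectrum.vanishingIdeal Z).toIdeal) := by
  have hmem : ∀ f : A, f ∈ (ProjectiveSpectrum.vanishingIdeal Z).toIdeal ↔
      ∀ x ∈ Z, f ∈ x.asHomogeneousIdeal.toIdeal :=
    fun f => ProjectiveSpectrum.mem_vanishingIdeal Z f
  constructor
  · rintro ⟨⟨x, hx⟩, hirr⟩
    refine ⟨fun hle => ?_, fun f _ g _ hfg => ?_⟩
    · obtain ⟨f, hf, hfx⟩ := exists_mem_irrelevant_notMem 𝒜 x
      exact hfx ((hmem f).mp (hle hf) x hx)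
    · have hsub : Z ⊆ ProjectiveSpectrum.zeroLocus 𝒜 {f} ∪ ProjectiveSpectrum.zeroLocus 𝒜 {g} := by
        intro y hy
        rcases y.isPrime.mem_or_mem ((hmem _).mp hfg y hy) with h | h
        · exact Or.inl (by simpa [ProjectiveSpectrum.mem_zeroLocus] using h)
        · exact Or.inr (by simpa [ProjectiveSpectrum.mem_zeroLocus] using h)
      rcases isPreirreducible_iff_isClosed_union_isClosed.mp hirr _ _
        (ProjectiveSpectrum.isClosed_zeroLocus 𝒜 _) (ProjectiveSpectrum.isClosed_zeroLocus 𝒜 _)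
        hsub with h | h
      · exact Or.inl ((hmem f).mpr fun y hy => h hy rfl)
      · exact Or.inr ((hmem g).mpr fun y hy => h hy rfl)
  · rintro ⟨hne, hprime⟩
    refine ⟨?_, isPreirreducible_iff_isClosed_union_isClosed.mpr fun a b ha hb hsub => ?_⟩
    · rw [Set.nonempty_iff_ne_empty]
      intro he
      exact hne fun f _ => (hmem f).mpr (by simp [he])
    · obtain ⟨s, rfl⟩ := (ProjectiveSpectrum.isClosed_iff_zeroLocus 𝒜 a).mp ha
      obtain ⟨t, rfl⟩ := (ProjectiveSpectrum.isClosed_iff_zeroLocus 𝒜 b).mp hb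
      have key : ∀ {u : Set A}, ¬ Z ⊆ ProjectiveSpectrum.zeroLocus 𝒜 u →
          ∃ f ∈ (HomogeneousIdeal.irrelevant 𝒜).toIdeal,
            (∀ y ∈ ProjectiveSpectrum.zeroLocus 𝒜 u, f ∈ y.asHomogeneousIdeal.toIdeal) ∧
            f ∉ (ProjectiveSpectrum.vanishingIdeal Z).toIdeal := by
        intro u hu
        obtain ⟨x, hxZ, hxu⟩ := Set.not_subset.mp hu
        obtain ⟨e, heu, hex⟩ := Set.not_subset.mp hxu
        obtain ⟨h, hh, hhx⟩ := exists_mem_irrelevant_notMem 𝒜 x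
        refine ⟨e * h, Ideal.mul_mem_left _ _ hh, fun y hy => Ideal.mul_mem_right _ _ (hy heu),
          fun hv => ?_⟩
        exact (x.isPrime.mem_or_mem ((hmem _).mp hv x hxZ)).elim hex hhx
      by_contra hc
      push Not at hc
      obtain ⟨f, hf, hf', hfZ⟩ := key hc.1
      obtain ⟨g, hg, hg', hgZ⟩ := key hc.2
      refine (hprime f hf g hg ((hmem _).mpr fun y hy => ?_)).elim hfZ hgZ
      rcases hsub hy with h | h
      · exact Ideal.mul_mem_right _ _ (hf' y h)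
      · exact Ideal.mul_mem_left _ _ (hg' y h)

theorem isReduced_away {d : ℕ} (hd : 0 < d) {f : A} (hf : f ∈ 𝒜 d)
    (hred : ∀ a ∈ (HomogeneousIdeal.irrelevant 𝒜).toIdeal, IsNilpotent a → a = 0) :
    _root_.IsReduced (HomogeneousLocalization.Away 𝒜 f) := by
  refine ⟨fun z hz => ?_⟩
  obtain ⟨k, a, ha, rfl⟩ := HomogeneousLocalization.Away.mk_surjective 𝒜 hf z
  obtain ⟨N, hN⟩ := hz
  apply HomogeneousLocalization.val_injective
  have h0 := congrArg HomogeneousLocalization.val hN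
  rw [HomogeneousLocalization.val_pow, HomogeneousLocalization.Away.val_mk,
    HomogeneousLocalization.val_zero, Localization.mk_pow, Localization.mk_eq_mk',
    IsLocalization.mk'_eq_zero_iff] at h0
  obtain ⟨⟨_, j, rfl⟩, hj⟩ := h0
  have hfa : f * a = 0 := by
    refine hred _ (Ideal.mul_mem_right _ _ (HomogeneousIdeal.mem_irrelevant_of_mem 𝒜 hd hf))
      ⟨N + j, ?_⟩
    have hj' : f ^ j * a ^ N = 0 := hj
    calc (f * a) ^ (N + j) = f ^ N * a ^ j * (f ^ j * a ^ N) := by rw [mul_pow, pow_add, pow_add]; ring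
      _ = 0 := by rw [hj', mul_zero]
  rw [HomogeneousLocalization.Away.val_mk, HomogeneousLocalization.val_zero,
    Localization.mk_eq_mk', IsLocalization.mk'_eq_zero_iff]
  exact ⟨⟨f, 1, pow_one f⟩, hfa⟩

theorem isReduced_proj {S : Type*} [CommRing S] [Algebra R S] (ℬ : ℕ → Submodule R S)
    [GradedAlgebra ℬ] (hred : ∀ a ∈ (HomogeneousIdeal.irrelevant ℬ).toIdeal, IsNilpotent a → a = 0) :
    AlgebraicGeometry.IsReduced (Proj ℬ) := by
  let 𝒰 := (Proj.affineOpenCover ℬ).openCover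
  have : ∀ i, AlgebraicGeometry.IsReduced (𝒰.X i) := fun i => by
    have : _root_.IsReduced (HomogeneousLocalization.Away ℬ (i.2 : S)) :=
      isReduced_away ℬ i.1.2 i.2.2 hred
    change AlgebraicGeometry.IsReduced (Spec (.of (HomogeneousLocalization.Away ℬ (i.2 : S))))
    infer_instance
  exact AlgebraicGeometry.IsReduced.of_openCover _ 𝒰

end GrothLib.GradedAlg
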