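import Groth.Agent.Lib.GradedAlg.ProjMap
import Groth.Agent.Lib.GradedAlg.Quotient

/-!
# Closed subschemes of `Proj` are `Proj` of quotients
-/

universe u

open AlgebraicGeometry CategoryTheory HomogeneousLocalization DirectSum

namespace GrothLib.GradedAlg

variable {R A : Type u} [CommRing R] [CommRing A] [Algebra R A] {𝒜 : ℕ → Submodule R A}
  [GradedAlgebra 𝒜]

variable (𝒜) in
/-- A standard affine open of `Proj`. -/
noncomputable abbrev dPlus {d : ℕ} (f : A) (hf : f ∈ 𝒜 d) (hd : 0 < d) : (Proj 𝒜).affineOpens :=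
  ⟨Proj.basicOpen 𝒜 f, Proj.isAffineOpen_basicOpen 𝒜 f hf hd⟩

/-- The ideal of `(A_f)₀` given by an ideal sheaf on `Proj`. -/
noncomputable def chartIdeal (I : (Proj 𝒜).IdealSheafData) {d : ℕ} (f : A) (hf : f ∈ 𝒜 d)
    (hd : 0 < d) : Ideal (Away 𝒜 f) :=
  (I.ideal (dPlus 𝒜 f hf hd)).comap (Proj.awayToSection 𝒜 f).hom

theorem awayToSection_bijective {d : ℕ} (f : A) (hf : f ∈ 𝒜 d) (hd : 0 < d) :
    Function.Bijective (Proj.awayToSection 𝒜 f).hom := by
  have h : IsIso (Proj.awayToSection 𝒜 f) := by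
    rw [← Proj.basicOpenIsoAway_hom 𝒜 f hf hd]; infer_instance
  exact (ConcreteCategory.isIso_iff_bijective _).mp h

theorem map_chartIdeal_eq (I : (Proj 𝒜).IdealSheafData) {d : ℕ} (f : A) (hf : f ∈ 𝒜 d) (hd : 0 < d) :
    (chartIdeal I f hf hd).map (Proj.awayToSection 𝒜 f).hom = I.ideal (dPlus 𝒜 f hf hd) :=
  Ideal.map_comap_of_surjective _ (awayToSection_bijective f hf hd).2 _

theorem map_chartIdeal (I : (Proj 𝒜).IdealSheafData) {d e : ℕ} {f g x : A} (hf : f ∈ 𝒜 d)
    (hd : 0 < d) (hg : g ∈ 𝒜 e) (hx : x = f * g) (hxd : x ∈ 𝒜 (d + e)) :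
    (chartIdeal I f hf hd).map (awayMap 𝒜 hg hx) = chartIdeal I x hxd (Nat.add_pos_left hd e) := by
  have hbij := awayToSection_bijective x hxd (Nat.add_pos_left hd e)
  apply_fun Ideal.map (Proj.awayToSection 𝒜 x).hom using
    Function.LeftInverse.injective (g := Ideal.comap (Proj.awayToSection 𝒜 x).hom)
      (fun J => Ideal.comap_map_of_bijective _ hbij)
  rw [map_chartIdeal_eq, Ideal.map_map]
  have h : (Proj.awayToSection 𝒜 x).hom.comp (awayMap 𝒜 hg hx) =
      ((Proj 𝒜).presheaf.map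
        (homOfLE (Proj.basicOpen_mono 𝒜 f x ⟨g, hx⟩)).op).hom.comp (Proj.awayToSection 𝒜 f).hom :=
    congrArg CommRingCat.Hom.hom (Proj.awayMap_awayToSection 𝒜 (f := f) hg hx)
  rw [h, ← Ideal.map_map, map_chartIdeal_eq]
  exact I.map_ideal (U := dPlus 𝒜 x hxd (Nat.add_pos_left hd e)) (V := dPlus 𝒜 f hf hd)
    (Proj.basicOpen_mono 𝒜 f x ⟨g, hx⟩)

variable (𝒜) in
/-- `a / f ^ n` for `f` of degree one. -/
noncomputable abbrev frac {f : A} (hf : f ∈ 𝒜 1) (n : ℕ) (a : A) (ha : a ∈ 𝒜 n) : Away 𝒜 f :=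
  Away.mk 𝒜 hf n a (by simpa using ha)

theorem frac_congr {f : A} (hf : f ∈ 𝒜 1) (n : ℕ) {a b : A} (ha : a ∈ 𝒜 n) (hb : b ∈ 𝒜 n)
    (h : a = b) : frac 𝒜 hf n a ha = frac 𝒜 hf n b hb := by
  subst h; rfl

theorem frac_add {f : A} (hf : f ∈ 𝒜 1) (n : ℕ) {a b : A} (ha : a ∈ 𝒜 n) (hb : b ∈ 𝒜 n) :
    frac 𝒜 hf n (a + b) (add_mem ha hb) = frac 𝒜 hf n a ha + frac 𝒜 hf n b hb := by
  apply HomogeneousLocalization.val_injective
  simp [Away.val_mk, Localization.add_mk_self]

theorem frac_zero {f : A} (hf : f ∈ 𝒜 1) (n : ℕ) :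
    frac 𝒜 hf n 0 (zero_mem _) = 0 := by
  apply HomogeneousLocalization.val_injective
  simp [Away.val_mk, Localization.mk_zero]

theorem frac_mul {f : A} (hf : f ∈ 𝒜 1) (m n : ℕ) {a b : A} (ha : a ∈ 𝒜 m) (hb : b ∈ 𝒜 n) :
    frac 𝒜 hf (m + n) (a * b) (SetLike.mul_mem_graded ha hb) =
      frac 𝒜 hf m a ha * frac 𝒜 hf n b hb := by
  apply HomogeneousLocalization.val_injective
  rw [HomogeneousLocalization.val_mul, Away.val_mk, Away.val_mk, Away.val_mk, Localization.mk_mul]
  congr 1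
  exact Subtype.ext (pow_add f m n)

theorem frac_pow_self {f : A} (hf : f ∈ 𝒜 1) (k : ℕ) :
    frac 𝒜 hf k (f ^ k) (by simpa using SetLike.pow_mem_graded k hf) = 1 := by
  apply HomogeneousLocalization.val_injective
  rw [Away.val_mk, HomogeneousLocalization.val_one]
  exact Localization.mk_self (⟨f ^ k, k, rfl⟩ : Submonoid.powers f)

variable (I : (Proj 𝒜).IdealSheafData) (s : Finset A) (hs1 : ∀ f ∈ s, f ∈ 𝒜 1)

/-- The homogeneous ideal of a closed subscheme of `Proj`. -/
def subschemeIdeal : HomogeneousIdeal 𝒜 where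
  carrier := {a | ∀ (n : ℕ) (f : A) (h : f ∈ s),
    frac 𝒜 (hs1 f h) n (decompose 𝒜 a n : 𝒜 n) (decompose 𝒜 a n).2 ∈
      chartIdeal I f (hs1 f h) one_pos}
  add_mem' := by
    intro a b ha hb n f h
    rw [frac_congr (hs1 f h) n _ (add_mem (decompose 𝒜 a n).2 (decompose 𝒜 b n).2)
      (by simp), frac_add (hs1 f h) n (decompose 𝒜 a n).2 (decompose 𝒜 b n).2]
    exact add_mem (ha n f h) (hb n f h)
  zero_mem' := by
    intro n f h
    rw [frac_congr (hs1 f h) n _ (zero_mem _) (by simp), frac_zero (hs1 f h) n]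
    exact zero_mem _
  smul_mem' := by
    intro c x hx n f h
    revert n
    refine sum_decompose_mem 𝒜 (P := fun c => ∀ n, frac 𝒜 (hs1 f h) n (decompose 𝒜 (c • x) n : 𝒜 n)
      (decompose 𝒜 (c • x) n).2 ∈ chartIdeal I f (hs1 f h) one_pos) ?_ ?_ ?_ c
    · intro n
      rw [frac_congr (hs1 f h) n _ (zero_mem _) (by simp), frac_zero (hs1 f h) n]
      exact zero_mem _
    · intro a b ha hb n
      rw [frac_congr (hs1 f h) n _ (add_mem (decompose 𝒜 (a • x) n).2 (decompose 𝒜 (b • x) n).2)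
        (by simp [add_mul]),
        frac_add (hs1 f h) n (decompose 𝒜 (a • x) n).2 (decompose 𝒜 (b • x) n).2]
      exact add_mem (ha n) (hb n)
    · intro i c hc n
      by_cases hin : i ≤ n
      · obtain ⟨j, rfl⟩ := Nat.exists_eq_add_of_le hin
        rw [frac_congr (hs1 f h) (i + j) _ (SetLike.mul_mem_graded hc (decompose 𝒜 x j).2)
          (by rw [smul_eq_mul, coe_decompose_mul_of_left_mem_of_le 𝒜 hc hin,
            Nat.add_sub_cancel_left]),
          frac_mul (hs1 f h) i j hc (decompose 𝒜 x j).2]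
        exact Ideal.mul_mem_left _ _ (hx j f h)
      · rw [frac_congr (hs1 f h) n _ (zero_mem _)
          (by rw [smul_eq_mul, coe_decompose_mul_of_left_mem_of_not_le 𝒜 hc hin]),
          frac_zero (hs1 f h) n]
        exact zero_mem _
  is_homogeneous' := by
    intro m a ha n f h
    by_cases hmn : m = n
    · subst hmn
      rw [frac_congr (hs1 f h) m _ (decompose 𝒜 a m).2 (by simp)]
      exact ha m f h
    · rw [frac_congr (hs1 f h) n _ (zero_mem _)
        (decompose_of_mem_ne 𝒜 (decompose 𝒜 a m).2 hmn), frac_zero (hs1 f h) n]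
      exact zero_mem _

theorem mem_subschemeIdeal {n : ℕ} {a : A} (ha : a ∈ 𝒜 n) :
    a ∈ (subschemeIdeal I s hs1).toIdeal ↔
      ∀ (f : A) (h : f ∈ s), frac 𝒜 (hs1 f h) n a ha ∈ chartIdeal I f (hs1 f h) one_pos := by
  constructor
  · intro H f h
    rw [← frac_congr (hs1 f h) n (decompose 𝒜 a n).2 ha (decompose_of_mem_same 𝒜 ha)]
    exact H n f h
  · intro H m f h
    by_cases hnm : n = m
    · subst hnm
      rw [frac_congr (hs1 f h) n _ ha (decompose_of_mem_same 𝒜 ha)]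
      exact H f h
    · rw [frac_congr (hs1 f h) m _ (zero_mem _) (decompose_of_mem_ne 𝒜 ha hnm),
        frac_zero (hs1 f h) m]
      exact zero_mem _

theorem ker_away_map_subscheme {g : A} (hg : g ∈ s) :
    RingHom.ker (Away.map (qhom (subschemeIdeal I s hs1)) g) = chartIdeal I g (hs1 g hg) one_pos := by
  classical
  set J := subschemeIdeal I s hs1 with hJ
  ext z
  obtain ⟨n, a, ha, rfl⟩ := Away.mk_surjective 𝒜 (hs1 g hg) z
  have ha' : a ∈ 𝒜 n := by simpa using ha
  have hz : Away.mk 𝒜 (hs1 g hg) n a ha = frac 𝒜 (hs1 g hg) n a ha' := rfl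
  rw [hz, RingHom.mem_ker]
  have hker : Away.map (qhom J) g (frac 𝒜 (hs1 g hg) n a ha') = 0 ↔
      ∃ k : ℕ, g ^ k * a ∈ J.toIdeal := by
    rw [Away.map_mk, ← (HomogeneousLocalization.val_injective _).eq_iff, Away.val_mk,
      HomogeneousLocalization.val_zero, Localization.mk_eq_mk', IsLocalization.mk'_eq_zero_iff]
    constructor
    · rintro ⟨⟨_, k, rfl⟩, hk⟩
      refine ⟨k, ?_⟩
      rw [← Ideal.Quotient.eq_zero_iff_mem, map_mul, map_pow]
      exact hk
    · rintro ⟨k, hk⟩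
      refine ⟨⟨_, k, rfl⟩, ?_⟩
      rw [← Ideal.Quotient.eq_zero_iff_mem, map_mul, map_pow] at hk
      exact hk
  rw [hker]
  constructor
  · rintro ⟨k, hk⟩
    have hmem : g ^ k * a ∈ 𝒜 (k + n) := SetLike.mul_mem_graded (by simpa using SetLike.pow_mem_graded k (hs1 g hg)) ha'
    have h1 := (mem_subschemeIdeal I s hs1 hmem).mp hk g hg
    rw [frac_mul (hs1 g hg) k n (by simpa using SetLike.pow_mem_graded k (hs1 g hg)) ha',
      frac_pow_self (hs1 g hg) k, one_mul] at h1
    exact h1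
  · intro hc
    have key : ∀ f ∈ s, ∃ k : ℕ, ∀ j, k ≤ j → ∀ (h : f ∈ s) (hm : g ^ j * a ∈ 𝒜 (j + n)),
        frac 𝒜 (hs1 f h) (j + n) (g ^ j * a) hm ∈ chartIdeal I f (hs1 f h) one_pos := by
      intro f hf
      let x := f * g
      have hxd : x ∈ 𝒜 (1 + 1) := SetLike.mul_mem_graded (hs1 f hf) (hs1 g hg)
      have hg' : awayMap 𝒜 (hs1 f hf) (x := x) (mul_comm f g) (frac 𝒜 (hs1 g hg) n a ha') ∈
          chartIdeal I x hxd (by omega) := by
        rw [← map_chartIdeal I (hs1 g hg) one_pos (hs1 f hf) (mul_comm f g) hxd]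
        exact Ideal.mem_map_of_mem _ hc
      have hfx : awayMap 𝒜 (hs1 g hg) (x := x) rfl (frac 𝒜 (hs1 f hf) n a ha') ∈
          chartIdeal I x hxd (by omega) := by
        have heq : awayMap 𝒜 (hs1 g hg) (x := x) rfl (frac 𝒜 (hs1 f hf) n a ha') =
            awayMap 𝒜 (hs1 f hf) (x := x) (mul_comm f g) (frac 𝒜 (hs1 g hg) n a ha') *
              Away.mk 𝒜 hxd n (g ^ (n + n)) (by
                have h2 := SetLike.pow_mem_graded (n + n) (hs1 g hg)
                simp only [smul_eq_mul, mul_one] at h2 ⊢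
                rwa [show n * (1 + 1) = n + n by ring]) := by
          apply HomogeneousLocalization.val_injective
          rw [HomogeneousLocalization.val_mul, awayMap_mk, awayMap_mk, Away.val_mk, Away.val_mk,
            Away.val_mk, Localization.mk_mul, Localization.mk_eq_mk_iff, Localization.r_iff_exists]
          refine ⟨1, ?_⟩
          simp only [OneMemClass.coe_one, one_mul, Submonoid.coe_mul, x]
          ring
        rw [heq]
        exact Ideal.mul_mem_right _ _ hg'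
      rw [← map_chartIdeal I (hs1 f hf) one_pos (hs1 g hg) (rfl : x = f * g) hxd] at hfx
      letI := (awayMap 𝒜 (hs1 g hg) (rfl : x = f * g)).toAlgebra
      have hloc := Away.isLocalization_mul (hs1 f hf) (hs1 g hg) (rfl : x = f * g) one_ne_zero
      obtain ⟨_, ⟨k, rfl⟩, hk⟩ := (IsLocalization.algebraMap_mem_map_algebraMap_iff
        (Submonoid.powers (Away.isLocalizationElem (hs1 f hf) (hs1 g hg))) _ _ _).mp hfx
      refine ⟨k, fun j hj h hm => ?_⟩
      have hgk : g ^ k ∈ 𝒜 k := by simpa using SetLike.pow_mem_graded k (hs1 g hg)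
      have hk2 : frac 𝒜 (hs1 f h) k (g ^ k) hgk * frac 𝒜 (hs1 f h) n a ha' ∈
          chartIdeal I f (hs1 f h) one_pos := by
        have heq : Away.isLocalizationElem (hs1 f hf) (hs1 g hg) ^ k = frac 𝒜 (hs1 f h) k (g ^ k) hgk := by
          apply HomogeneousLocalization.val_injective
          rw [HomogeneousLocalization.val_pow, Away.val_mk, Away.val_mk, Localization.mk_pow]
          congr 1
          · rw [pow_one]
          · exact Subtype.ext (by simp)
        rw [← heq]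
        exact hk
      obtain ⟨i, rfl⟩ := Nat.exists_eq_add_of_le hj
      have hgi : g ^ i ∈ 𝒜 i := by simpa using SetLike.pow_mem_graded i (hs1 g hg)
      rw [frac_mul (hs1 f h) (k + i) n (by simpa using SetLike.pow_mem_graded (k + i) (hs1 g hg)) ha',
        frac_congr (hs1 f h) (k + i) _ (SetLike.mul_mem_graded hgk hgi) (pow_add g k i),
        frac_mul (hs1 f h) k i hgk hgi, mul_comm (frac 𝒜 (hs1 f h) k (g ^ k) hgk), mul_assoc]
      exact Ideal.mul_mem_left _ _ hk2
    choose! k hk using key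
    refine ⟨s.sup k, ?_⟩
    have hmem : g ^ (s.sup k) * a ∈ 𝒜 (s.sup k + n) :=
      SetLike.mul_mem_graded (by simpa using SetLike.pow_mem_graded _ (hs1 g hg)) ha'
    exact (mem_subschemeIdeal I s hs1 hmem).mpr fun f h =>
      hk f h _ (Finset.le_sup h) h hmem

theorem ker_map_qhom_eq (hs : (HomogeneousIdeal.irrelevant 𝒜).toIdeal = Ideal.span (s : Set A)) :
    (Proj.map (qhom (subschemeIdeal I s hs1)) (irrelevant_le_map_qhom _)).ker = I := by
  set φ := qhom (subschemeIdeal I s hs1) with hφdef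
  set hφ := irrelevant_le_map_qhom (subschemeIdeal I s hs1)
  have : IsClosedImmersion (Proj.map φ hφ) := isClosedImmersion_map φ hφ (qhom_surjective _)
  refine Scheme.IdealSheafData.ext_of_iSup_eq_top
    (fun f : s => dPlus 𝒜 (f : A) (hs1 _ f.2) one_pos) ?_ fun f => ?_
  · refine Proj.iSup_basicOpen_eq_top 𝒜 (fun f : s => (f : A)) ?_
    exact hs.le.trans (Ideal.span_mono fun x hx => ⟨⟨x, hx⟩, rfl⟩)
  rw [Scheme.Hom.ker_apply]
  apply Ideal.comap_injective_of_surjective _ (awayToSection_bijective _ (hs1 _ f.2) one_pos).2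
  rw [RingHom.comap_ker]
  have h := congrArg CommRingCat.Hom.hom
    (Proj.awayToSection_comp_appLE φ hφ (i := 1) (s := (f : A)) (hs1 _ f.2))
  rw [CommRingCat.hom_comp, CommRingCat.hom_comp] at h
  rw [Scheme.Hom.app_eq_appLE]
  change RingHom.ker (((Proj.map φ hφ).appLE (Proj.basicOpen 𝒜 (f : A))
    (Proj.basicOpen (qgr (subschemeIdeal I s hs1)) (φ (f : A))) (by rfl)).hom.comp
      (Proj.awayToSection 𝒜 (f : A)).hom) = chartIdeal I (f : A) (hs1 _ f.2) one_pos
  rw [h, RingHom.ker_comp_of_injective _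
    (awayToSection_bijective (φ (f : A)) (φ.2 (hs1 _ f.2)) one_pos).1]
  exact ker_away_map_subscheme I s hs1 f.2

end GrothLib.GradedAlg
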