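import Groth.Agent.Lib.GradedAlg.Spectrum

/-!
# Properties of `Proj.map` checked on the standard charts
-/

universe u

open AlgebraicGeometry CategoryTheory HomogeneousLocalization

namespace GrothLib.GradedAlg

variable {R A B : Type u} [CommRing R] [CommRing A] [Algebra R A] {𝒜 : ℕ → Submodule R A}
  [GradedAlgebra 𝒜] [CommRing B] [Algebra R B] {ℬ : ℕ → Submodule R B} [GradedAlgebra ℬ]
  (φ : 𝒜 →+*ᵍ ℬ) (hφ : HomogeneousIdeal.irrelevant ℬ ≤ (HomogeneousIdeal.irrelevant 𝒜).map φ)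

theorem isPullback_awayι {i : ℕ} (hi : 0 < i) (s : A) (hs : s ∈ 𝒜 i) :
    IsPullback (Spec.map (CommRingCat.ofHom (Away.map φ s)))
      (Proj.awayι ℬ (φ s) (φ.2 hs) hi) (Proj.awayι 𝒜 s hs hi) (Proj.map φ hφ) := by
  refine IsOpenImmersion.isPullback _ _ _ _ (Proj.awayι_comp_map φ hφ hi s hs) ?_
  rw [Proj.opensRange_awayι, Proj.opensRange_awayι, Proj.map_preimage_basicOpen]

theorem of_forall_away (P : MorphismProperty Scheme.{u}) [IsZariskiLocalAtTarget P]
    (h : ∀ (i : ℕ) (_ : 0 < i) (s : A) (_ : s ∈ 𝒜 i),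
      P (Spec.map (CommRingCat.ofHom (Away.map φ s)))) :
    P (Proj.map φ hφ) := by
  refine IsZariskiLocalAtTarget.of_openCover (Proj.affineOpenCover 𝒜).openCover fun (j : Σ i : PNat, 𝒜 i) => ?_
  have H := isPullback_awayι φ hφ j.1.2 (j.2 : A) j.2.2
  have he := (IsPullback.of_hasPullback (Proj.map φ hφ) (Proj.awayι 𝒜 (j.2 : A) j.2.2 j.1.2)).flip
  have key := he.isoIsPullback_hom_fst _ _ H
  have h2 : P (Limits.pullback.snd (Proj.map φ hφ) (Proj.awayι 𝒜 (j.2 : A) j.2.2 j.1.2)) := by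
    rw [← key]
    exact (P.cancel_left_of_respectsIso _ _).mpr (h _ j.1.2 _ j.2.2)
  exact h2

theorem isAffineHom_map : IsAffineHom (Proj.map φ hφ) :=
  of_forall_away φ hφ @IsAffineHom fun _ _ _ _ => inferInstance

theorem away_map_surjective (hsurj : Function.Surjective φ) {i : ℕ} (s : A) (hs : s ∈ 𝒜 i) :
    Function.Surjective (Away.map φ s) := by
  intro y
  obtain ⟨n, x, hx, rfl⟩ := Away.mk_surjective ℬ (φ.2 hs) y
  obtain ⟨a, rfl⟩ := hsurj x
  refine ⟨Away.mk 𝒜 hs n _ (DirectSum.decompose 𝒜 a (n • i)).2, ?_⟩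
  rw [Away.map_mk]
  apply HomogeneousLocalization.val_injective
  rw [Away.val_mk, Away.val_mk]
  congr 1
  rw [GradedRingHom.map_directSumDecompose, DirectSum.decompose_of_mem_same ℬ hx]

theorem isClosedImmersion_map (hsurj : Function.Surjective φ) :
    IsClosedImmersion (Proj.map φ hφ) :=
  of_forall_away φ hφ @IsClosedImmersion fun _ _ s hs =>
    IsClosedImmersion.spec_of_surjective _ (away_map_surjective φ hsurj s hs)

theorem away_map_bijective (hbij : ∀ n : ℕ, 0 < n → Set.BijOn φ (𝒜 n) (ℬ n)) {i : ℕ} (hi : 0 < i)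
    (s : A) (hs : s ∈ 𝒜 i) : Function.Bijective (Away.map φ s) := by
  constructor
  · rw [injective_iff_map_eq_zero]
    intro y hy
    obtain ⟨n, x, hx, rfl⟩ := Away.mk_surjective 𝒜 hs y
    rw [Away.map_mk] at hy
    apply HomogeneousLocalization.val_injective
    have h0 := congrArg HomogeneousLocalization.val hy
    rw [Away.val_mk, HomogeneousLocalization.val_zero, Localization.mk_eq_mk',
      IsLocalization.mk'_eq_zero_iff] at h0 ⊢
    obtain ⟨⟨_, k, rfl⟩, hk⟩ := h0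
    refine ⟨⟨s ^ (k + 1), k + 1, rfl⟩, ?_⟩
    have hk' : φ s ^ k * φ x = 0 := hk
    have hmem : s ^ (k + 1) * x ∈ 𝒜 ((k + 1) • i + n • i) :=
      SetLike.mul_mem_graded (SetLike.pow_mem_graded _ hs) hx
    refine (hbij _ (Nat.add_pos_left (Nat.mul_pos (Nat.succ_pos k) hi) _)).injOn hmem (zero_mem _) ?_
    rw [map_mul, map_pow, pow_succ', mul_assoc, hk', mul_zero, map_zero]
  · intro y
    obtain ⟨n, x, hx, rfl⟩ := Away.mk_surjective ℬ (φ.2 hs) y
    have hmem : x * φ s ∈ ℬ ((n + 1) • i) := by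
      rw [succ_nsmul]; exact SetLike.mul_mem_graded hx (φ.2 hs)
    obtain ⟨a, ha, ha'⟩ := (hbij _ (Nat.mul_pos (Nat.succ_pos n) hi)).surjOn hmem
    refine ⟨Away.mk 𝒜 hs (n + 1) a ha, ?_⟩
    rw [Away.map_mk]
    apply HomogeneousLocalization.val_injective
    rw [Away.val_mk, Away.val_mk, Localization.mk_eq_mk', IsLocalization.mk'_eq_iff_eq]
    congr 1
    change φ s ^ n * φ a = φ s ^ (n + 1) * x
    rw [ha']; ring

theorem isIso_map (hbij : ∀ n : ℕ, 0 < n → Set.BijOn φ (𝒜 n) (ℬ n)) : IsIso (Proj.map φ hφ) :=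
  of_forall_away φ hφ (MorphismProperty.isomorphisms Scheme.{u}) fun _ hi s hs => by
    haveI : IsIso (CommRingCat.ofHom (Away.map φ s)) :=
      (ConcreteCategory.isIso_iff_bijective _).mpr (away_map_bijective φ hbij hi s hs)
    exact inferInstanceAs (IsIso (Spec.map (CommRingCat.ofHom (Away.map φ s))))

theorem denseRange_map (hker : ∀ a : A, φ a = 0 → IsNilpotent a) :
    DenseRange (Proj.map φ hφ).base := by
  classical
  rw [DenseRange, dense_iff_inter_open]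
  intro U hU hne
  obtain ⟨x, hxU⟩ := hne
  obtain ⟨S, hS⟩ := (ProjectiveSpectrum.isClosed_iff_zeroLocus 𝒜 Uᶜ).mp hU.isClosed_compl
  have hxS : ¬ S ⊆ (x : ProjectiveSpectrum 𝒜).asHomogeneousIdeal := fun h => by
    have : (x : ProjectiveSpectrum 𝒜) ∈ ProjectiveSpectrum.zeroLocus 𝒜 S := h
    rw [← hS] at this
    exact this hxU
  obtain ⟨e, heS, hex⟩ := Set.not_subset.mp hxS
  have hm : ∃ m, ((DirectSum.decompose 𝒜 e m : 𝒜 m) : A) ∉
      (x : ProjectiveSpectrum 𝒜).asHomogeneousIdeal.toIdeal := by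
    by_contra hc
    push Not at hc
    refine hex ?_
    rw [← DirectSum.sum_support_decompose 𝒜 e]
    exact sum_mem fun m _ => hc m
  obtain ⟨m, hm⟩ := hm
  have hd : ∃ i, 0 < i ∧ ∃ h ∈ 𝒜 i, h ∉ (x : ProjectiveSpectrum 𝒜).asHomogeneousIdeal.toIdeal := by
    by_contra hc
    push Not at hc
    exact (x : ProjectiveSpectrum 𝒜).not_irrelevant_le
      ((HomogeneousIdeal.irrelevant_le 𝒜).mpr fun i hi a ha => hc i hi a ha)
  obtain ⟨i, hi, h, hh, hhx⟩ := hd
  set g := ((DirectSum.decompose 𝒜 e m : 𝒜 m) : A) * h with hg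
  have hgdeg : g ∈ 𝒜 (m + i) := SetLike.mul_mem_graded (DirectSum.decompose 𝒜 e m).2 hh
  have hgx : g ∉ (x : ProjectiveSpectrum 𝒜).asHomogeneousIdeal.toIdeal := fun hgx =>
    ((x : ProjectiveSpectrum 𝒜).isPrime.mem_or_mem hgx).elim hm hhx
  have hex' : ∃ y : ProjectiveSpectrum ℬ, φ g ∉ y.asHomogeneousIdeal.toIdeal := by
    by_contra hc
    push Not at hc
    have hirr : φ g ∈ (HomogeneousIdeal.irrelevant ℬ).toIdeal :=
      HomogeneousIdeal.mem_irrelevant_of_mem ℬ (Nat.add_pos_right m hi) (φ.2 hgdeg)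
    have := mem_radical_of_forall_mem ℬ (Ideal.IsHomogeneous.bot ℬ) hirr fun y _ => hc y
    obtain ⟨n, hn⟩ := mem_nilradical.mp this
    obtain ⟨k, hk⟩ := hker (g ^ n) (by rw [map_pow]; exact hn)
    refine hgx ((x : ProjectiveSpectrum 𝒜).isPrime.mem_of_pow_mem (n * k) ?_)
    rw [pow_mul, hk]; exact zero_mem _
  obtain ⟨y, hy⟩ := hex'
  refine ⟨(Proj.map φ hφ).base y, ?_, ⟨y, rfl⟩⟩
  by_contra hyU
  have hyS : S ⊆ (ProjectiveSpectrum.comap φ hφ y).asHomogeneousIdeal := by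
    have : ProjectiveSpectrum.comap φ hφ y ∈ ProjectiveSpectrum.zeroLocus 𝒜 S := by
      rw [← hS]; exact hyU
    exact this
  exact hy (Ideal.mem_comap.mp
    (Ideal.mul_mem_right h _ ((ProjectiveSpectrum.comap φ hφ y).asHomogeneousIdeal.isHomogeneous m (hyS heS))))

end GrothLib.GradedAlg
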