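import Mathlib

/-!
# Finiteness in graded algebras graded in nonnegative degrees

Generators of the irrelevant ideal, finite type over degree zero, Noetherianity, and the
Veronese-type identities `𝒜 (m * h) = 𝒜 h ^ m`.
-/

universe u v

open DirectSum

namespace GrothLib.GradedAlg

section

variable {R A : Type*} [CommRing R] [CommRing A] [Algebra R A] (𝒜 : ℕ → Submodule R A)
  [GradedAlgebra 𝒜]

/-- The degree-zero elements act on each degree. -/
theorem coe_mul_mem {n : ℕ} (c : 𝒜 0) {a : A} (ha : a ∈ 𝒜 n) : (c : A) * a ∈ 𝒜 n := by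
  simpa using SetLike.mul_mem_graded c.2 ha

theorem sum_decompose_mem {P : A → Prop} (h0 : P 0) (hadd : ∀ x y, P x → P y → P (x + y))
    (h : ∀ n, ∀ x ∈ 𝒜 n, P x) (a : A) : P a := by
  classical
  rw [← DirectSum.sum_support_decompose 𝒜 a]
  exact Finset.sum_induction _ P hadd h0 fun i _ => h i _ (decompose 𝒜 a i).2

theorem eq_zero_of_mem_zero_of_mem_irrelevant {a : A} (ha : a ∈ 𝒜 0)
    (ha' : a ∈ (HomogeneousIdeal.irrelevant 𝒜).toIdeal) : a = 0 := by
  have h : GradedRing.proj 𝒜 0 a = 0 := (HomogeneousIdeal.mem_irrelevant_iff 𝒜 a).mp ha'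
  rwa [GradedRing.proj_apply, decompose_of_mem_same 𝒜 ha] at h

theorem irrelevant_eq_span_of_adjoin_eq_top (E : Set A) (hE : ∀ e ∈ E, ∃ d : ℕ, 0 < d ∧ e ∈ 𝒜 d)
    (h : Algebra.adjoin (𝒜 0) E = ⊤) :
    (HomogeneousIdeal.irrelevant 𝒜).toIdeal = Ideal.span E := by
  have hle : Ideal.span E ≤ (HomogeneousIdeal.irrelevant 𝒜).toIdeal := by
    rw [Ideal.span_le]
    intro e he
    obtain ⟨d, hd, hed⟩ := hE e he
    exact HomogeneousIdeal.mem_irrelevant_of_mem 𝒜 hd hed
  refine le_antisymm (fun a ha => ?_) hle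
  have key : ∀ x ∈ Algebra.adjoin (𝒜 0) E, ∃ r : 𝒜 0, x - (r : A) ∈ Ideal.span E := by
    intro x hx
    induction hx using Algebra.adjoin_induction with
    | mem e he => exact ⟨0, by simpa using Ideal.subset_span he⟩
    | algebraMap r => exact ⟨r, by simp⟩
    | add x y _ _ hx hy =>
      obtain ⟨r, hr⟩ := hx
      obtain ⟨s, hs⟩ := hy
      refine ⟨r + s, ?_⟩
      have := add_mem hr hs
      convert this using 1
      rw [AddMemClass.coe_add]; ring
    | mul x y _ _ hx hy =>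
      obtain ⟨r, hr⟩ := hx
      obtain ⟨s, hs⟩ := hy
      refine ⟨r * s, ?_⟩
      have := add_mem (Ideal.mul_mem_right y _ hr) (Ideal.mul_mem_left _ (r : A) hs)
      convert this using 1
      rw [SetLike.GradeZero.coe_mul]; ring
  obtain ⟨r, hr⟩ := key a (by simp [h])
  have h0 : (r : A) = 0 := by
    refine eq_zero_of_mem_zero_of_mem_irrelevant 𝒜 r.2 ?_
    simpa using sub_mem ha (hle hr)
  simpa [h0] using hr

theorem adjoin_eq_top_of_irrelevant_eq_span (E : Set A) (hE : ∀ e ∈ E, ∃ d : ℕ, 0 < d ∧ e ∈ 𝒜 d)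
    (h : (HomogeneousIdeal.irrelevant 𝒜).toIdeal = Ideal.span E) :
    Algebra.adjoin (𝒜 0) E = ⊤ := by
  classical
  have key : ∀ n, ∀ a ∈ 𝒜 n, a ∈ Algebra.adjoin (𝒜 0) E := by
    intro n
    induction n using Nat.strong_induction_on with
    | _ n ih =>
      intro a ha
      rcases Nat.eq_zero_or_pos n with rfl | hn
      · exact Subalgebra.algebraMap_mem (Algebra.adjoin (𝒜 0) E) (⟨a, ha⟩ : 𝒜 0)
      have hmem : a ∈ Ideal.span E := by
        rw [← h]; exact HomogeneousIdeal.mem_irrelevant_of_mem 𝒜 hn ha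
      suffices H : ∀ x ∈ Ideal.span E, ∀ c : A,
          ((decompose 𝒜 (c * x) n : 𝒜 n) : A) ∈ Algebra.adjoin (𝒜 0) E by
        simpa [decompose_of_mem_same 𝒜 ha] using H a hmem 1
      intro x hx
      induction hx using Submodule.span_induction with
      | mem e he =>
        intro c
        obtain ⟨d, hd, hed⟩ := hE e he
        by_cases hdn : d ≤ n
        · rw [coe_decompose_mul_of_right_mem_of_le 𝒜 hed hdn]
          exact mul_mem (ih (n - d) (by omega) _ (decompose 𝒜 c (n - d)).2)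
            (Algebra.subset_adjoin he)
        · rw [coe_decompose_mul_of_right_mem_of_not_le 𝒜 hed hdn]
          exact zero_mem _
      | zero => intro c; simp
      | add x y _ _ hx hy =>
        intro c
        simpa [mul_add] using add_mem (hx c) (hy c)
      | smul b x _ hx =>
        intro c
        simpa [mul_assoc] using hx (c * b)
  exact eq_top_iff.mpr fun a _ =>
    sum_decompose_mem 𝒜 (P := (· ∈ Algebra.adjoin (𝒜 0) E)) (zero_mem _)
      (fun _ _ => add_mem) key a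

theorem irrelevant_fg_of_finiteType [Algebra.FiniteType (𝒜 0) A] :
    (HomogeneousIdeal.irrelevant 𝒜).toIdeal.FG := by
  obtain ⟨s, hs, hs'⟩ := GradedAlgebra.exists_finset_adjoin_eq_top_and_homogeneous_ne_zero 𝒜
  refine ⟨s, (irrelevant_eq_span_of_adjoin_eq_top 𝒜 (s : Set A) (fun e he => ?_) hs).symm⟩
  obtain ⟨n, hn, hen⟩ := hs' e he
  exact ⟨n, Nat.pos_of_ne_zero hn, hen⟩

theorem finiteType_of_irrelevant_fg (h : (HomogeneousIdeal.irrelevant 𝒜).toIdeal.FG) :
    Algebra.FiniteType (𝒜 0) A := by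
  rw [HomogeneousIdeal.irrelevant_eq_span] at h
  obtain ⟨s, hs, hspan⟩ := (Submodule.fg_span_iff_fg_span_finset_subset _).mp h
  refine ⟨⟨s, adjoin_eq_top_of_irrelevant_eq_span 𝒜 (s : Set A) (fun e he => ?_) ?_⟩⟩
  · obtain ⟨i, hi, hei⟩ := Set.mem_iUnion₂.mp (hs he)
    exact ⟨i, hi, hei⟩
  · rw [HomogeneousIdeal.irrelevant_eq_span]; exact hspan

theorem isNoetherianRing_zero [IsNoetherianRing A] : IsNoetherianRing (𝒜 0) :=
  isNoetherianRing_of_surjective A (𝒜 0) (GradedRing.projZeroRingHom' 𝒜)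
    (GradedRing.projZeroRingHom'_surjective 𝒜)

theorem isNoetherianRing_iff :
    IsNoetherianRing A ↔ IsNoetherianRing (𝒜 0) ∧ Algebra.FiniteType (𝒜 0) A := by
  refine ⟨fun h => ⟨isNoetherianRing_zero 𝒜, finiteType_of_irrelevant_fg 𝒜 (IsNoetherian.noetherian _)⟩,
    fun ⟨_, _⟩ => Algebra.FiniteType.isNoetherianRing (𝒜 0) A⟩

/-! ### Monomials in homogeneous generators -/

/-- A finite family of homogeneous generators of positive degree. -/
theorem exists_homogeneous_generators [Algebra.FiniteType (𝒜 0) A] :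
    ∃ (r : ℕ) (e : Fin r → A) (d : Fin r → ℕ), (∀ i, 0 < d i) ∧ (∀ i, e i ∈ 𝒜 (d i)) ∧
      Algebra.adjoin (𝒜 0) (Set.range e) = ⊤ := by
  classical
  obtain ⟨s, hs, hs'⟩ := GradedAlgebra.exists_finset_adjoin_eq_top_and_homogeneous_ne_zero 𝒜
  choose d hd hmem using hs'
  refine ⟨s.card, fun i => (s.equivFin.symm i : A), fun i => d _ (s.equivFin.symm i).2,
    fun i => Nat.pos_of_ne_zero (hd _ _), fun i => hmem _ _, ?_⟩
  rw [← hs]
  congr 1
  ext x
  refine ⟨fun ⟨i, hi⟩ => hi ▸ (s.equivFin.symm i).2, fun hx => ⟨s.equivFin ⟨x, hx⟩, by simp⟩⟩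

theorem monomial_mem {r : ℕ} {e : Fin r → A} {d : Fin r → ℕ} (he : ∀ i, e i ∈ 𝒜 (d i))
    (k : Fin r → ℕ) : ∏ i, e i ^ k i ∈ 𝒜 (∑ i, k i * d i) :=
  SetLike.prod_mem_graded 𝒜 _ _ fun i _ => by
    simpa using SetLike.pow_mem_graded (k i) (he i)

/-- Every homogeneous element of degree `n` is a combination of monomials of degree `n`. -/
theorem mem_span_monomials {r : ℕ} {e : Fin r → A} {d : Fin r → ℕ} (he : ∀ i, e i ∈ 𝒜 (d i))
    (hadj : Algebra.adjoin (𝒜 0) (Set.range e) = ⊤) {n : ℕ} {a : A} (ha : a ∈ 𝒜 n) :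
    a ∈ Submodule.span (𝒜 0) {x : A | ∃ k : Fin r → ℕ, ∑ i, k i * d i = n ∧ ∏ i, e i ^ k i = x} := by
  classical
  have h : a ∈ Submodule.span (𝒜 0) ((Submonoid.closure (Set.range e) : Submonoid A) : Set A) := by
    rw [← Algebra.adjoin_eq_span, hadj]; simp
  suffices H : ∀ x ∈ Submodule.span (𝒜 0) ((Submonoid.closure (Set.range e) : Submonoid A) : Set A),
      ((decompose 𝒜 x n : 𝒜 n) : A) ∈ Submodule.span (𝒜 0)
        {x : A | ∃ k : Fin r → ℕ, ∑ i, k i * d i = n ∧ ∏ i, e i ^ k i = x} by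
    simpa [decompose_of_mem_same 𝒜 ha] using H a h
  intro x hx
  induction hx using Submodule.span_induction with
  | mem x hx =>
    obtain ⟨k, rfl⟩ := Submonoid.mem_closure_range_iff_of_fintype.mp hx
    by_cases hk : ∑ i, k i * d i = n
    · rw [decompose_of_mem_same 𝒜 (hk ▸ monomial_mem 𝒜 he k)]
      exact Submodule.subset_span ⟨k, hk, rfl⟩
    · rw [decompose_of_mem_ne 𝒜 (monomial_mem 𝒜 he k) hk]
      exact zero_mem _
  | zero => simp
  | add x y _ _ hx hy => simpa using add_mem hx hy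
  | smul c x _ hx =>
    have e1 : c • x = (c : A) * x := rfl
    rw [e1, coe_decompose_mul_of_left_mem_of_le 𝒜 c.2 (Nat.zero_le n)]
    exact Submodule.smul_mem _ c hx

theorem mem_irrelevant_pow [Algebra.FiniteType (𝒜 0) A] (n : ℕ) :
    ∃ m₀ : ℕ, ∀ m, m₀ ≤ m → ∀ a ∈ 𝒜 m, a ∈ (HomogeneousIdeal.irrelevant 𝒜).toIdeal ^ n := by
  classical
  obtain ⟨r, e, d, hd, he, hadj⟩ := exists_homogeneous_generators 𝒜
  refine ⟨n * (∑ i, d i) + 1, fun m hm a ha => ?_⟩
  have hle : Submodule.span (𝒜 0) {x : A | ∃ k : Fin r → ℕ, ∑ i, k i * d i = m ∧ ∏ i, e i ^ k i = x}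
      ≤ ((HomogeneousIdeal.irrelevant 𝒜).toIdeal ^ n).restrictScalars (𝒜 0) := by
    rw [Submodule.span_le]
    rintro _ ⟨k, hk, rfl⟩
    have hex : ∃ i, n ≤ k i := by
      by_contra hc
      push Not at hc
      have : m ≤ n * ∑ i, d i := by
        rw [← hk, Finset.mul_sum]
        exact Finset.sum_le_sum fun i _ => Nat.mul_le_mul_right _ (hc i).le
      omega
    obtain ⟨i, hi⟩ := hex
    rw [← Finset.mul_prod_erase _ _ (Finset.mem_univ i)]
    exact Ideal.mul_mem_right _ _ (Ideal.pow_le_pow_right hi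
      (Ideal.pow_mem_pow (HomogeneousIdeal.mem_irrelevant_of_mem 𝒜 (hd i) (he i)) _))
  exact hle (mem_span_monomials 𝒜 he hadj ha)

/-- For a suitable `L`, in large degrees `n`, one has `𝒜 (n + L) ≤ 𝒜 L * 𝒜 n`. -/
theorem exists_period [Algebra.FiniteType (𝒜 0) A] :
    ∃ L r : ℕ, 0 < L ∧ ∀ n, r * L ≤ n → 𝒜 (n + L) ≤ 𝒜 L * 𝒜 n := by
  classical
  obtain ⟨r, e, d, hd, he, hadj⟩ := exists_homogeneous_generators 𝒜
  refine ⟨∏ i, d i, r, Finset.prod_pos fun i _ => hd i, fun n hn a ha => ?_⟩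
  set L := ∏ i, d i with hL
  have hLpos : 0 < L := Finset.prod_pos fun i _ => hd i
  let S : Submodule (𝒜 0) A :=
    { carrier := ((𝒜 L * 𝒜 n : Submodule R A) : Set A)
      add_mem' := add_mem
      zero_mem' := zero_mem _
      smul_mem' := fun c x hx => by
        change (c : A) * x ∈ 𝒜 L * 𝒜 n
        induction hx using Submodule.mul_induction_on' with
        | mem_mul_mem u hu v hv =>
          rw [← mul_assoc]; exact Submodule.mul_mem_mul (coe_mul_mem 𝒜 c hu) hv
        | add u _ v _ hu hv => rw [mul_add]; exact add_mem hu hv }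
  have hle : Submodule.span (𝒜 0)
      {x : A | ∃ k : Fin r → ℕ, ∑ i, k i * d i = n + L ∧ ∏ i, e i ^ k i = x} ≤ S := by
    rw [Submodule.span_le]
    rintro _ ⟨k, hk, rfl⟩
    have hex : ∃ i, L ≤ k i * d i := by
      by_contra hc
      push Not at hc
      have h1 : ∑ i, k i * d i ≤ r * L := by
        have h2 := Finset.sum_le_sum (s := (Finset.univ : Finset (Fin r)))
          fun i _ => (hc i).le
        simpa using h2
      omega
    obtain ⟨i, hi⟩ := hex
    obtain ⟨q, hq⟩ : d i ∣ L := Finset.dvd_prod_of_mem _ (Finset.mem_univ i)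
    have hqk : q ≤ k i := by
      have : d i * q ≤ d i * k i := by rw [← hq, mul_comm (d i) (k i)]; exact hi
      exact Nat.le_of_mul_le_mul_left this (hd i)
    let k' : Fin r → ℕ := Function.update k i (k i - q)
    have hprod : ∏ j, e j ^ k j = e i ^ q * ∏ j, e j ^ k' j := by
      rw [← Finset.mul_prod_erase _ _ (Finset.mem_univ i),
        ← Finset.mul_prod_erase _ (fun j => e j ^ k' j) (Finset.mem_univ i), ← mul_assoc,
        ← pow_add]
      congr 1
      · congr 1
        simp [k']; omega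
      · refine Finset.prod_congr rfl fun j hj => ?_
        simp [k', Finset.ne_of_mem_erase hj]
    have hdeg : ∑ j, k' j * d j = n := by
      have h1 := Finset.add_sum_erase _ (fun j => k j * d j) (Finset.mem_univ i)
      have h2 := Finset.add_sum_erase _ (fun j => k' j * d j) (Finset.mem_univ i)
      have h3 : ∑ x ∈ Finset.univ.erase i, k' x * d x = ∑ x ∈ Finset.univ.erase i, k x * d x :=
        Finset.sum_congr rfl fun j hj => by simp [k', Finset.ne_of_mem_erase hj]
      have h4 : k i * d i = k' i * d i + L := by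
        rw [hq, mul_comm (d i) q, ← Nat.add_mul]
        congr 1
        simp [k']; omega
      omega
    rw [hprod]
    refine Submodule.mul_mem_mul ?_ (hdeg ▸ monomial_mem 𝒜 he k')
    have h5 := SetLike.pow_mem_graded q (he i)
    rwa [smul_eq_mul, mul_comm, ← hq] at h5
  exact hle (mem_span_monomials 𝒜 he hadj ha)

theorem mul_le_add (i j : ℕ) : 𝒜 i * 𝒜 j ≤ 𝒜 (i + j) :=
  Submodule.mul_le.mpr fun _ ha _ hb => SetLike.mul_mem_graded ha hb

theorem pow_le_mul (i m : ℕ) : 𝒜 i ^ m ≤ 𝒜 (m * i) := by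
  induction m with
  | zero =>
    rw [pow_zero, zero_mul, Submodule.one_le]
    exact SetLike.one_mem_graded 𝒜
  | succ m ih =>
    rw [pow_succ, add_mul, one_mul]
    exact (mul_le_mul' ih le_rfl).trans (mul_le_add 𝒜 _ _)

theorem exists_pow_degree_eq [Algebra.FiniteType (𝒜 0) A] :
    ∃ h : ℕ, 0 < h ∧ ∀ m : ℕ, 0 < m → 𝒜 (m * h) = 𝒜 h ^ m := by
  obtain ⟨L, r, hL, hper⟩ := exists_period 𝒜
  have key : ∀ k n, r * L ≤ n → 𝒜 (n + k * L) ≤ 𝒜 (k * L) * 𝒜 n := by
    intro k
    induction k with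
    | zero =>
      intro n _
      simp only [zero_mul, add_zero]
      intro a ha
      simpa using Submodule.mul_mem_mul (SetLike.one_mem_graded 𝒜) ha
    | succ k ih =>
      intro n hn
      have e1 : n + (k + 1) * L = (n + k * L) + L := by ring
      rw [e1]
      refine (hper _ (le_add_right hn)).trans ?_
      refine (mul_le_mul' le_rfl (ih n hn)).trans ?_
      rw [← mul_assoc]
      refine mul_le_mul' ?_ le_rfl
      rw [add_mul, one_mul, mul_comm (𝒜 L)]
      exact mul_le_add 𝒜 _ _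
  refine ⟨(r + 1) * L, by positivity, fun m hm => le_antisymm ?_ (pow_le_mul 𝒜 _ m)⟩
  induction m with
  | zero => omega
  | succ m ih =>
    rcases Nat.eq_zero_or_pos m with rfl | hm0
    · simp
    have e2 : (m + 1) * ((r + 1) * L) = m * ((r + 1) * L) + (r + 1) * L := by ring
    rw [e2, pow_succ']
    refine (key (r + 1) _ ?_).trans (mul_le_mul' le_rfl (ih hm0))
    calc r * L ≤ (r + 1) * L := Nat.mul_le_mul_right _ (Nat.le_succ _)
      _ ≤ m * ((r + 1) * L) := Nat.le_mul_of_pos_left _ hm0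

end

end GrothLib.GradedAlg
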