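import Groth.Agent.Lib.GradedAlg.Basic
import Mathlib.RingTheory.FiniteType

/-!
# A degree generating the Veronese, for gradings by additive subgroups
-/

universe u

open DirectSum

namespace GrothLib.GradedAlg

section Z

variable {A : Type u} [CommRing A] (𝒜 : ℕ → AddSubgroup A) [GradedRing 𝒜]

/-- The grading by `ℤ`-submodules. -/
abbrev intGrading (n : ℕ) : Submodule ℤ A := AddSubgroup.toIntSubmodule (𝒜 n)

instance gradedAlgebraInt : GradedAlgebra (intGrading 𝒜) where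
  one_mem := SetLike.GradedOne.one_mem (A := 𝒜)
  mul_mem := fun _ _ _ _ hi hj => SetLike.GradedMul.mul_mem (A := 𝒜) hi hj
  decompose' := (show DirectSum.Decomposition 𝒜 from inferInstance).decompose'
  left_inv := (show DirectSum.Decomposition 𝒜 from inferInstance).left_inv
  right_inv := (show DirectSum.Decomposition 𝒜 from inferInstance).right_inv

end Z

variable {R A : Type*} [CommRing R] [CommRing A] [Algebra R A] (𝒜 : ℕ → Submodule R A) [GradedAlgebra 𝒜]

theorem exists_finset_eq_zero_mul [Algebra.FiniteType (𝒜 0) A] (d : ℕ) :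
    ∃ T : Finset A, (T : Set A) ⊆ 𝒜 d ∧ 𝒜 d = 𝒜 0 * Submodule.span R (T : Set A) := by
  classical
  obtain ⟨r, e, δ, hδ, he, hadj⟩ := exists_homogeneous_generators 𝒜
  let G : Set A := {x : A | ∃ k : Fin r → ℕ, ∑ i, k i * δ i = d ∧ ∏ i, e i ^ k i = x}
  have hG : G.Finite := by
    refine (Set.finite_range fun k : Fin r → Fin (d + 1) => ∏ i, e i ^ (k i : ℕ)).subset ?_
    rintro x ⟨k, hk, rfl⟩
    refine ⟨fun i => ⟨k i, Nat.lt_succ_of_le ?_⟩, rfl⟩
    calc k i ≤ k i * δ i := Nat.le_mul_of_pos_right _ (hδ i)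
      _ ≤ ∑ j, k j * δ j := Finset.single_le_sum (f := fun j => k j * δ j) (fun j _ => Nat.zero_le _) (Finset.mem_univ i)
      _ = d := hk
  have hsub : (hG.toFinset : Set A) ⊆ 𝒜 d := by
    rintro x hx
    obtain ⟨k, hk, rfl⟩ := hG.mem_toFinset.1 hx
    exact hk ▸ monomial_mem 𝒜 he k
  refine ⟨hG.toFinset, hsub, le_antisymm (fun a ha => ?_) ?_⟩
  · have h := mem_span_monomials 𝒜 he hadj ha
    rw [hG.coe_toFinset]
    clear ha
    induction h using Submodule.closure_induction with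
    | zero => exact zero_mem _
    | add x y _ _ hx hy => exact add_mem hx hy
    | smul_mem c x hx => exact Submodule.mul_mem_mul c.2 (Submodule.subset_span hx)
  · refine le_trans (mul_le_mul' le_rfl (Submodule.span_le.2 hsub)) ?_
    exact (mul_le_add 𝒜 0 d).trans (by rw [zero_add])

theorem exists_common_degree {ι : Type*} [Finite ι] {A : ι → Type u} [∀ i, CommRing (A i)]
    (𝒜 : ∀ i, ℕ → Submodule ℤ (A i)) [∀ i, GradedAlgebra (𝒜 i)] [∀ i, Algebra.FiniteType (𝒜 i 0) (A i)] :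
    ∃ d : ℕ, 0 < d ∧ ∀ i, (∀ n : ℕ, 0 < n → 𝒜 i (n * d) = 𝒜 i d ^ n) ∧
      ∃ T : Finset (A i), (T : Set (A i)) ⊆ 𝒜 i d ∧ 𝒜 i d = 𝒜 i 0 * Submodule.span ℤ (T : Set (A i)) := by
  classical
  have := Fintype.ofFinite ι
  choose h hh heq using fun i => exists_pow_degree_eq (𝒜 i)
  refine ⟨∏ i, h i, Finset.prod_pos fun i _ => hh i, fun i => ⟨fun n hn => ?_, exists_finset_eq_zero_mul (𝒜 i) _⟩⟩
  obtain ⟨c, hc⟩ : h i ∣ ∏ j, h j := Finset.dvd_prod_of_mem _ (Finset.mem_univ i)
  have hc0 : 0 < c := by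
    rcases Nat.eq_zero_or_pos c with rfl | h0
    · rw [mul_zero] at hc
      exact absurd hc (Finset.prod_pos fun j _ => hh j).ne'
    · exact h0
  rw [hc, mul_comm (h i) c, ← mul_assoc, heq i _ (Nat.mul_pos hn hc0), heq i c hc0, mul_comm n c, pow_mul]

end GrothLib.GradedAlg
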