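import Groth.Agent.Lib.GradedAlg.ProjMap
import Groth.Agent.Lib.Pushout6.PullbackCover
import Mathlib.RingTheory.IsTensorProduct
import Mathlib.Algebra.Category.Ring.Constructions

/-!
# Base change of `Proj`
-/

universe u

set_option backward.isDefEq.respectTransparency false
set_option maxHeartbeats 400000

open DirectSum HomogeneousLocalization AlgebraicGeometry CategoryTheory
open scoped TensorProduct

namespace GrothLib.GradedAlg

section Retraction

variable {R A : Type u} [CommRing R] [CommRing A] [Algebra R A] (𝒜 : ℕ → Submodule R A) [GradedAlgebra 𝒜]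

/-- The structure map of a degree-zero localization. -/
noncomputable def toAway (f : A) : R →+* Away 𝒜 f :=
  (fromZeroRingHom 𝒜 (Submonoid.powers f)).comp (algebraMap R (𝒜 0))

theorem val_toAway (f : A) (r : R) :
    (toAway 𝒜 f r).val = algebraMap A (Localization.Away f) (algebraMap R A r) := by
  rw [← Localization.mk_one_eq_algebraMap]
  rfl

variable {f : A} {d : ℕ} (hf : f ∈ 𝒜 d)

/-- The projection of `b / f ^ k` to degree zero. -/
noncomputable def degPart (b : A) (k : ℕ) : Away 𝒜 f :=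
  Away.mk 𝒜 hf k (decompose 𝒜 b (k • d) : A) (Subtype.coe_prop _)

theorem degPart_eq {b b' : A} {k l m : ℕ} (h : f ^ m * (f ^ l * b) = f ^ m * (f ^ k * b')) :
    degPart 𝒜 hf b k = degPart 𝒜 hf b' l := by
  classical
  apply val_injective
  simp only [degPart, Away.val_mk]
  rw [Localization.mk_eq_mk_iff, Localization.r_iff_exists]
  refine ⟨⟨f ^ m, m, rfl⟩, ?_⟩
  have h2 := congrArg (fun x => (decompose 𝒜 x (m • d + (l • d + k • d)) : A)) h
  simp only at h2
  rw [coe_decompose_mul_add_of_left_mem 𝒜 (SetLike.pow_mem_graded m hf),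
    coe_decompose_mul_add_of_left_mem 𝒜 (SetLike.pow_mem_graded l hf)] at h2
  rw [coe_decompose_mul_add_of_left_mem 𝒜 (SetLike.pow_mem_graded m hf), Nat.add_comm (l • d),
    coe_decompose_mul_add_of_left_mem 𝒜 (SetLike.pow_mem_graded k hf)] at h2
  exact h2

theorem exists_rep (x : Localization.Away f) :
    ∃ (b : A) (k : ℕ), x = Localization.mk b ⟨f ^ k, pow_mem (Submonoid.mem_powers f) k⟩ := by
  induction x using Localization.induction_on with
  | _ p =>
    obtain ⟨b, ⟨c, k, rfl⟩⟩ := p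
    exact ⟨b, k, rfl⟩

/-- The map underlying the retraction `A_f → A_(f)`. -/
noncomputable def retFun (x : Localization.Away f) : Away 𝒜 f :=
  degPart 𝒜 hf (exists_rep x).choose (exists_rep x).choose_spec.choose

theorem retFun_mk (b : A) (k : ℕ) :
    retFun 𝒜 hf (Localization.mk b (⟨f ^ k, pow_mem (Submonoid.mem_powers f) k⟩ : Submonoid.powers f)) =
      degPart 𝒜 hf b k := by
  generalize hx : Localization.mk b (⟨f ^ k, pow_mem (Submonoid.mem_powers f) k⟩ : Submonoid.powers f) = x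
  have H : ∀ (b' : A) (l : ℕ), x = Localization.mk b' ⟨f ^ l, pow_mem (Submonoid.mem_powers f) l⟩ →
      degPart 𝒜 hf b' l = degPart 𝒜 hf b k := fun b' l h => by
    have h2 := hx.trans h
    rw [Localization.mk_eq_mk_iff, Localization.r_iff_exists] at h2
    obtain ⟨⟨c, m, rfl⟩, hm⟩ := h2
    exact (degPart_eq 𝒜 hf (m := m) hm).symm
  exact H _ _ (exists_rep x).choose_spec.choose_spec

theorem retFun_add (x y : Localization.Away f) : retFun 𝒜 hf (x + y) = retFun 𝒜 hf x + retFun 𝒜 hf y := by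
  classical
  obtain ⟨b, k, rfl⟩ := exists_rep x
  obtain ⟨c, l, rfl⟩ := exists_rep y
  have h : Localization.mk b (⟨f ^ k, pow_mem (Submonoid.mem_powers f) k⟩ : Submonoid.powers f) +
      Localization.mk c ⟨f ^ l, pow_mem (Submonoid.mem_powers f) l⟩ =
      Localization.mk (f ^ l * b + f ^ k * c) ⟨f ^ (l + k), pow_mem (Submonoid.mem_powers f) _⟩ := by
    rw [Localization.add_mk, Localization.mk_eq_mk_iff, Localization.r_iff_exists]
    exact ⟨1, by simp only [Submonoid.coe_one, Submonoid.coe_mul, one_mul]; ring⟩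
  rw [h, retFun_mk, retFun_mk, retFun_mk]
  apply val_injective
  simp only [degPart, val_add, Away.val_mk, decompose_add, DirectSum.add_apply, Submodule.coe_add]
  rw [add_smul, coe_decompose_mul_add_of_left_mem 𝒜 (SetLike.pow_mem_graded l hf), Nat.add_comm (l • d),
    coe_decompose_mul_add_of_left_mem 𝒜 (SetLike.pow_mem_graded k hf), Localization.add_mk,
    Localization.mk_eq_mk_iff, Localization.r_iff_exists]
  exact ⟨1, by simp only [Submonoid.coe_one, Submonoid.coe_mul, one_mul]; ring⟩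

theorem retFun_smul (r : R) (x : Localization.Away f) :
    retFun 𝒜 hf (algebraMap A (Localization.Away f) (algebraMap R A r) * x) = toAway 𝒜 f r * retFun 𝒜 hf x := by
  classical
  obtain ⟨b, k, rfl⟩ := exists_rep x
  rw [← Localization.mk_one_eq_algebraMap, Localization.mk_mul, one_mul, retFun_mk, retFun_mk]
  apply val_injective
  simp only [degPart, val_mul, Away.val_mk, val_toAway, ← Localization.mk_one_eq_algebraMap, Localization.mk_mul,
    one_mul]
  rw [← Algebra.smul_def, decompose_smul, DirectSum.smul_apply, Submodule.coe_smul, Algebra.smul_def]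

theorem retFun_val (y : Away 𝒜 f) : retFun 𝒜 hf y.val = y := by
  classical
  obtain ⟨k, a, ha, rfl⟩ := Away.mk_surjective 𝒜 hf y
  rw [Away.val_mk, retFun_mk]
  apply val_injective
  simp only [degPart, Away.val_mk, decompose_of_mem_same 𝒜 ha]

end Retraction

section BaseChange

variable {R R' A B : Type u} [CommRing R'] [CommRing R] [Algebra R' R]
    [CommRing B] [Algebra R' B] (ℬ : ℕ → Submodule R' B) [GradedAlgebra ℬ]
    [CommRing A] [Algebra R A] [Algebra R' A] [IsScalarTower R' R A] (𝒜 : ℕ → Submodule R A) [GradedAlgebra 𝒜]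
    [Algebra B A] [IsScalarTower R' B A] [Algebra.IsPushout R' R B A]
    (φ : ℬ →+*ᵍ 𝒜) (hφA : ∀ b : B, φ b = algebraMap B A b)

theorem smul_eq_toAway_mul {R A : Type u} [CommRing R] [CommRing A] [Algebra R A] (𝒜 : ℕ → Submodule R A)
    [GradedAlgebra 𝒜] (f : A) (r : R) (y : Away 𝒜 f) : r • y = toAway 𝒜 f r * y := by
  apply val_injective
  rw [val_smul, val_mul, val_toAway, ← IsScalarTower.algebraMap_apply R A (Localization.Away f), Algebra.smul_def]

include hφA in
theorem exists_repr_degree (n : ℕ) (a : A) (ha : a ∈ 𝒜 n) :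
    a ∈ Submodule.span R (φ '' (ℬ n : Set B)) := by
  classical
  obtain ⟨t, rfl⟩ := (Algebra.IsPushout.equiv R' R B A).surjective a
  have key : ∀ t : R ⊗[R'] B, (decompose 𝒜 (Algebra.IsPushout.equiv R' R B A t) n : A) ∈
      Submodule.span R (φ '' (ℬ n : Set B)) := by
    intro t
    induction t using TensorProduct.induction_on with
    | zero => simp
    | add x y hx hy => rw [map_add, decompose_add, DirectSum.add_apply, Submodule.coe_add]; exact add_mem hx hy
    | tmul r b =>
      rw [Algebra.IsPushout.equiv_tmul, ← Algebra.smul_def, decompose_smul, DirectSum.smul_apply,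
        Submodule.coe_smul, ← hφA]
      refine Submodule.smul_mem _ r (Submodule.subset_span ⟨(decompose ℬ b n : B), Subtype.coe_prop _, ?_⟩)
      rw [GradedRingHom.map_directSumDecompose]
  have := key t
  rwa [decompose_of_mem_same 𝒜 ha] at this

include hφA in
theorem isPushout_away {i : ℕ} (f : B) (hf : f ∈ ℬ i) :
    IsPushout (CommRingCat.ofHom (algebraMap R' R)) (CommRingCat.ofHom (toAway ℬ f))
      (CommRingCat.ofHom (toAway 𝒜 (φ f))) (CommRingCat.ofHom (Away.map φ f)) := by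
  classical
  letI : Algebra R' (Away ℬ f) :=
    { algebraMap := toAway ℬ f
      smul := (· • ·)
      commutes' := fun _ _ => mul_comm _ _
      smul_def' := fun r y => smul_eq_toAway_mul ℬ f r y }
  letI : Algebra R (Away 𝒜 (φ f)) :=
    { algebraMap := toAway 𝒜 (φ f)
      smul := (· • ·)
      commutes' := fun _ _ => mul_comm _ _
      smul_def' := fun r y => smul_eq_toAway_mul 𝒜 (φ f) r y }
  letI : Algebra R' (Away 𝒜 (φ f)) := ((toAway 𝒜 (φ f)).comp (algebraMap R' R)).toAlgebra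
  haveI : IsScalarTower R' R (Away 𝒜 (φ f)) := ⟨fun r t y => by
    rw [smul_eq_toAway_mul 𝒜 (φ f) (r • t) y, smul_eq_toAway_mul 𝒜 (φ f) t y, Algebra.smul_def, map_mul,
      mul_assoc]
    rfl⟩
  have hfi : φ f ∈ 𝒜 i := φ.2 hf
  let ι₂ : Away ℬ f →ₐ[R'] Away 𝒜 (φ f) :=
    { Away.map φ f with
      commutes' := fun r => by
        change Away.map φ f (toAway ℬ f r) = toAway 𝒜 (φ f) (algebraMap R' R r)
        have h : toAway ℬ f r = Away.mk ℬ hf 0 (algebraMap R' B r)
            (by rw [zero_smul]; exact SetLike.algebraMap_mem_graded ℬ r) := by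
          apply val_injective
          rw [val_toAway, Away.val_mk, ← Localization.mk_one_eq_algebraMap]
          exact congrArg _ (Subtype.ext (pow_zero f).symm)
        rw [h, Away.map_mk φ f hf]
        apply val_injective
        rw [val_toAway, Away.val_mk, ← Localization.mk_one_eq_algebraMap,
          show φ (algebraMap R' B r) = algebraMap R A (algebraMap R' R r) by
            rw [hφA, ← IsScalarTower.algebraMap_apply R' B A, ← IsScalarTower.algebraMap_apply R' R A]]
        exact congrArg _ (Subtype.ext (pow_zero (φ f))) }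
  let α : R ⊗[R'] Away ℬ f →ₐ[R] Away 𝒜 (φ f) :=
    Algebra.TensorProduct.lift (Algebra.ofId R _) ι₂ fun _ _ => Commute.all _ _
  let π : Localization.Away f →ₗ[R'] Away ℬ f :=
    { toFun := retFun ℬ hf
      map_add' := retFun_add ℬ hf
      map_smul' := fun r x => by
        rw [Algebra.smul_def, IsScalarTower.algebraMap_apply R' B (Localization.Away f), retFun_smul]
        exact (Algebra.smul_def r (retFun ℬ hf x)).symm }
  let incl : R ⊗[R'] B →ₐ[R] R ⊗[R'] Localization.Away f :=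
    Algebra.TensorProduct.map (AlgHom.id R R) (IsScalarTower.toAlgHom R' B (Localization.Away f))
  let ψ₀ : A →ₐ[R] R ⊗[R'] Localization.Away f :=
    incl.comp (Algebra.IsPushout.equiv R' R B A).symm.toAlgHom
  have hψb : ∀ b, ψ₀ (φ b) = (1 : R) ⊗ₜ[R'] algebraMap B (Localization.Away f) b := by
    intro b
    have : (Algebra.IsPushout.equiv R' R B A).symm (φ b) = (1 : R) ⊗ₜ[R'] b := by
      rw [AlgEquiv.symm_apply_eq, Algebra.IsPushout.equiv_tmul, map_one, one_mul, hφA]
    simp only [ψ₀, AlgHom.comp_apply, AlgEquiv.coe_toAlgHom, AlgEquiv.toAlgHom_eq_coe, AlgHom.coe_coe, this]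
    simp [incl]
  have hu : IsUnit (ψ₀ (φ f)) := by
    rw [hψb]
    exact (IsLocalization.Away.algebraMap_isUnit f).map
      (Algebra.TensorProduct.includeRight : Localization.Away f →ₐ[R'] R ⊗[R'] Localization.Away f)
  let ψ : Localization.Away (φ f) →+* R ⊗[R'] Localization.Away f :=
    IsLocalization.Away.lift (g := ψ₀.toRingHom) (φ f) hu
  have hψι : ∀ (r : R) (y : Away ℬ f), ψ (α (r ⊗ₜ y)).val = r ⊗ₜ[R'] y.val := by
    intro r y
    have h1 : (α (r ⊗ₜ y)).val = algebraMap A _ (algebraMap R A r) * (Away.map φ f y).val := by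
      rw [Algebra.TensorProduct.lift_tmul, val_mul]
      congr 1
    obtain ⟨k, b, hb, rfl⟩ := Away.mk_surjective ℬ hf y
    have h3 : ψ (Away.map φ f (Away.mk ℬ hf k b hb)).val = (1 : R) ⊗ₜ[R'] (Away.mk ℬ hf k b hb).val := by
      rw [Away.map_mk φ f hf, Away.val_mk]
      refine ((hu.pow k).mul_left_inj).1 ?_
      have h4 : Localization.mk (φ b) (⟨φ f ^ k, pow_mem (Submonoid.mem_powers (φ f)) k⟩ : Submonoid.powers (φ f)) *
          algebraMap A _ (φ f ^ k) = algebraMap A _ (φ b) := by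
        rw [Localization.mk_eq_mk']
        exact IsLocalization.mk'_spec _ (φ b) (⟨φ f ^ k, pow_mem (Submonoid.mem_powers (φ f)) k⟩ : Submonoid.powers (φ f))
      have h5 := congrArg ψ h4
      rw [map_mul, IsLocalization.Away.lift_eq, IsLocalization.Away.lift_eq] at h5
      simp only [AlgHom.toRingHom_eq_coe, RingHom.coe_coe, map_pow] at h5
      rw [h5, hψb, hψb, Algebra.TensorProduct.tmul_pow, one_pow, Algebra.TensorProduct.tmul_mul_tmul, one_mul,
        Away.val_mk, ← map_pow, Localization.mk_eq_mk']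
      congr 1
      exact (IsLocalization.mk'_spec _ b (⟨f ^ k, pow_mem (Submonoid.mem_powers f) k⟩ : Submonoid.powers f)).symm
    rw [h1, map_mul, h3, IsLocalization.Away.lift_eq]
    simp only [AlgHom.toRingHom_eq_coe, RingHom.coe_coe, AlgHom.commutes, Algebra.TensorProduct.algebraMap_apply,
      Algebra.algebraMap_self, RingHom.id_apply, Algebra.TensorProduct.tmul_mul_tmul, mul_one, one_mul]
  have hinj : Function.Injective α := by
    refine Function.LeftInverse.injective (g := fun z => (LinearMap.lTensor R π) (ψ z.val)) fun t => ?_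
    induction t using TensorProduct.induction_on with
    | zero => simp only [map_zero, val_zero]
    | add x y hx hy => simp only [map_add, val_add] at hx hy ⊢; rw [hx, hy]
    | tmul r y =>
      simp only [hψι, LinearMap.lTensor_tmul]
      exact congrArg (r ⊗ₜ[R'] ·) (retFun_val ℬ hf y)
  have hsurj : Function.Surjective α := by
    intro z
    obtain ⟨k, a, ha, rfl⟩ := Away.mk_surjective 𝒜 hfi z
    have hs := exists_repr_degree ℬ 𝒜 φ hφA (k • i) a ha
    suffices H : ∀ a ∈ Submodule.span R (φ '' (ℬ (k • i) : Set B)), ∀ ha : a ∈ 𝒜 (k • i),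
        Away.mk 𝒜 hfi k a ha ∈ α.range from H a hs ha
    intro a ha
    have hle : Submodule.span R (φ '' (ℬ (k • i) : Set B)) ≤ 𝒜 (k • i) :=
      Submodule.span_le.2 (Set.image_subset_iff.2 fun b hb => φ.2 hb)
    induction ha using Submodule.span_induction with
    | mem x hx =>
      obtain ⟨b, hb, rfl⟩ := hx
      intro _
      refine ⟨1 ⊗ₜ Away.mk ℬ hf k b hb, ?_⟩
      rw [AlgHom.toRingHom_eq_coe, RingHom.coe_coe, Algebra.TensorProduct.lift_tmul, map_one, one_mul]
      exact Away.map_mk φ f hf k b hb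
    | zero =>
      intro _
      refine ⟨0, ?_⟩
      apply val_injective
      simp [Away.val_mk, Localization.mk_zero, val_zero]
    | add x y hx hy ihx ihy =>
      intro _
      obtain ⟨u, hu⟩ := ihx (hle hx)
      obtain ⟨v, hv⟩ := ihy (hle hy)
      refine ⟨u + v, ?_⟩
      rw [map_add, hu, hv]
      apply val_injective
      simp only [val_add, Away.val_mk, Localization.add_mk_self]
    | smul r x hx ihx =>
      intro _
      obtain ⟨u, hu⟩ := ihx (hle hx)
      refine ⟨r • u, ?_⟩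
      rw [AlgHom.toRingHom_eq_coe, RingHom.coe_coe] at hu ⊢
      rw [map_smul, hu]
      apply val_injective
      erw [val_smul]
  let e : R ⊗[R'] Away ℬ f ≃+* Away 𝒜 (φ f) := RingEquiv.ofBijective α ⟨hinj, hsurj⟩
  refine (CommRingCat.isPushout_tensorProduct R' R (Away ℬ f)).of_iso (Iso.refl _) (Iso.refl _) (Iso.refl _)
    e.toCommRingCatIso (by simp) (by rfl) ?_ ?_
  · refine CommRingCat.hom_ext (RingHom.ext fun r => ?_)
    change α ((r : R) ⊗ₜ (1 : Away ℬ f)) = toAway 𝒜 (φ f) r
    exact AlgHom.commutes α r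
  · refine CommRingCat.hom_ext (RingHom.ext fun y => ?_)
    change α ((1 : R) ⊗ₜ y) = Away.map φ f y
    rw [Algebra.TensorProduct.lift_tmul, map_one, one_mul]
    rfl

theorem map_mem_of (φ : ℬ →+*ᵍ 𝒜) {n : ℕ} {x : B} (hx : x ∈ ℬ n) : φ x ∈ 𝒜 n := φ.2 hx

theorem awayι_structure {R A : Type u} [CommRing R] [CommRing A] [Algebra R A] (𝒜 : ℕ → Submodule R A)
    [GradedAlgebra 𝒜] {i : ℕ} (hi : 0 < i) (f : A) (hf : f ∈ 𝒜 i) :
    Proj.awayι 𝒜 f hf hi ≫ Proj.toSpecZero 𝒜 ≫ Spec.map (CommRingCat.ofHom (algebraMap R (𝒜 0))) =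
      Spec.map (CommRingCat.ofHom (toAway 𝒜 f)) := by
  rw [Proj.awayι_toSpecZero_assoc, ← Spec.map_comp, ← CommRingCat.ofHom_comp]
  rfl

include hφA in
theorem isPullback_chart {i : ℕ} (hi : 0 < i) (f : B) (hf : f ∈ ℬ i) :
    IsPullback
      (Proj.awayι 𝒜 (φ f) (map_mem_of ℬ 𝒜 φ hf) hi ≫ Proj.toSpecZero 𝒜 ≫
        Spec.map (CommRingCat.ofHom (algebraMap R (𝒜 0))))
      (Spec.map (CommRingCat.ofHom (Away.map φ f))) (Spec.map (CommRingCat.ofHom (algebraMap R' R)))
      (Proj.awayι ℬ f hf hi ≫ Proj.toSpecZero ℬ ≫ Spec.map (CommRingCat.ofHom (algebraMap R' (ℬ 0)))) := by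
  rw [awayι_structure 𝒜 hi (φ f) (map_mem_of ℬ 𝒜 φ hf), awayι_structure ℬ hi f hf]
  exact isPullback_SpecMap_of_isPushout _ _ _ _ (isPushout_away ℬ 𝒜 φ hφA f hf)

include hφA in
theorem map_comp_structure (hφ : HomogeneousIdeal.irrelevant 𝒜 ≤ (HomogeneousIdeal.irrelevant ℬ).map φ) :
    Proj.map φ hφ ≫ Proj.toSpecZero ℬ ≫ Spec.map (CommRingCat.ofHom (algebraMap R' (ℬ 0))) =
      (Proj.toSpecZero 𝒜 ≫ Spec.map (CommRingCat.ofHom (algebraMap R (𝒜 0)))) ≫
        Spec.map (CommRingCat.ofHom (algebraMap R' R)) := by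
  refine (Proj.mapAffineOpenCover φ hφ).openCover.hom_ext _ _ fun s => ?_
  let j : (i : ℕ+) × ℬ i := s
  have h := (isPullback_chart ℬ 𝒜 φ hφA j.1.pos (j.2 : B) j.2.2).w
  simp only [Category.assoc] at h ⊢
  change Proj.awayι 𝒜 (φ (j.2 : B)) (map_mem_of ℬ 𝒜 φ j.2.2) j.1.pos ≫ _ =
    Proj.awayι 𝒜 (φ (j.2 : B)) (map_mem_of ℬ 𝒜 φ j.2.2) j.1.pos ≫ _
  rw [reassoc_of% (Proj.awayι_comp_map φ hφ j.1.pos (j.2 : B) j.2.2)]
  exact h.symm

theorem isPullback_awayι' (φ : ℬ →+*ᵍ 𝒜) (hφ : HomogeneousIdeal.irrelevant 𝒜 ≤ (HomogeneousIdeal.irrelevant ℬ).map φ)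
    {i : ℕ} (hi : 0 < i) (s : B) (hs : s ∈ ℬ i) :
    IsPullback (Spec.map (CommRingCat.ofHom (Away.map φ s)))
      (Proj.awayι 𝒜 (φ s) (map_mem_of ℬ 𝒜 φ hs) hi) (Proj.awayι ℬ s hs hi) (Proj.map φ hφ) := by
  refine IsOpenImmersion.isPullback _ _ _ _ (Proj.awayι_comp_map φ hφ hi s hs) ?_
  rw [Proj.opensRange_awayι, Proj.opensRange_awayι, Proj.map_preimage_basicOpen]

include hφA in
theorem isPullback_map (hφ : HomogeneousIdeal.irrelevant 𝒜 ≤ (HomogeneousIdeal.irrelevant ℬ).map φ) :
    IsPullback (Proj.map φ hφ)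
      (Proj.toSpecZero 𝒜 ≫ Spec.map (CommRingCat.ofHom (algebraMap R (𝒜 0))))
      (Proj.toSpecZero ℬ ≫ Spec.map (CommRingCat.ofHom (algebraMap R' (ℬ 0))))
      (Spec.map (CommRingCat.ofHom (algebraMap R' R))) := by
  refine (Pushout6.isPullback_of_cover (map_comp_structure ℬ 𝒜 φ hφA hφ).symm (Proj.affineOpenCover ℬ).openCover
    fun s => ?_).flip
  let c : (i : ℕ+) × ℬ i := s
  have h1 : (Proj.affineOpenCover ℬ).openCover.f s = Proj.awayι ℬ (c.2 : B) c.2.2 c.1.pos := by
    simp only [Scheme.AffineOpenCover.openCover_f, Proj.affineOpenCover_f]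
    rfl
  rw [h1]
  refine ⟨Spec (CommRingCat.of (Away 𝒜 (φ (c.2 : B)))),
    Proj.awayι 𝒜 (φ (c.2 : B)) (map_mem_of ℬ 𝒜 φ c.2.2) c.1.pos,
    Spec.map (CommRingCat.ofHom (Away.map φ (c.2 : B))), ?_, ?_⟩
  · exact (isPullback_awayι' ℬ 𝒜 φ hφ c.1.pos (c.2 : B) c.2.2).flip
  · exact isPullback_chart ℬ 𝒜 φ hφA c.1.pos (c.2 : B) c.2.2

end BaseChange

end GrothLib.GradedAlg
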