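import Groth.Agent.Lib.GradedAlg.Basic

/-!
# The graded ring `S♮` with `S♮ₙ = S_{≥ n}`
-/

open DirectSum Polynomial

namespace GrothLib.GradedAlg

variable {R A B : Type*} [CommRing R] [CommRing A] [Algebra R A] [CommRing B] [Algebra R B]
  (𝒜 : ℕ → Submodule R A) [GradedAlgebra 𝒜] (ℬ : ℕ → Submodule R B)

/-- `S_{≥ n}` as an `R`-submodule. -/
noncomputable abbrev tailSub (n : ℕ) : Submodule R A := ⨆ (m : ℕ) (_ : n ≤ m), 𝒜 m

theorem le_tailSub {n m : ℕ} (h : n ≤ m) : 𝒜 m ≤ tailSub 𝒜 n :=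
  le_iSup₂ (f := fun (m : ℕ) (_ : n ≤ m) => 𝒜 m) m h

theorem tailSub_le {n : ℕ} {P : Submodule R A} (h : ∀ m, n ≤ m → 𝒜 m ≤ P) : tailSub 𝒜 n ≤ P :=
  iSup₂_le h

theorem tailSub_eq_sup (n : ℕ) : tailSub 𝒜 n = 𝒜 n ⊔ tailSub 𝒜 (n + 1) := by
  refine le_antisymm (tailSub_le 𝒜 fun m hm => ?_)
    (sup_le (le_tailSub 𝒜 le_rfl) (tailSub_le 𝒜 fun m hm => le_tailSub 𝒜 (by omega)))
  rcases eq_or_lt_of_le hm with rfl | h
  · exact le_sup_left
  · exact (le_tailSub 𝒜 h).trans le_sup_right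

theorem tailSub_mul_le (i j : ℕ) : tailSub 𝒜 i * tailSub 𝒜 j ≤ tailSub 𝒜 (i + j) := by
  simp only [tailSub, Submodule.iSup_mul, Submodule.mul_iSup]
  refine iSup₂_le fun a ha => iSup₂_le fun b hb => ?_
  exact (mul_le_add 𝒜 _ _).trans (le_tailSub 𝒜 (by omega))

theorem tailSub_pow_le (n : ℕ) : tailSub 𝒜 1 ^ n ≤ tailSub 𝒜 n := by
  induction n with
  | zero =>
    rw [pow_zero, Submodule.one_le]
    exact le_tailSub 𝒜 le_rfl (SetLike.one_mem_graded 𝒜)
  | succ n ih =>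
    rw [pow_succ]
    exact (mul_le_mul' ih le_rfl).trans (tailSub_mul_le 𝒜 n 1)

theorem decompose_eq_zero_of_mem_tailSub {n k : ℕ} (hk : k < n) {x : A} (hx : x ∈ tailSub 𝒜 n) :
    ((decompose 𝒜 x k : 𝒜 k) : A) = 0 := by
  induction hx using Submodule.iSup_induction' with
  | zero => simp
  | add x y _ _ hx hy => simp [hx, hy]
  | mem m x hx =>
    induction hx using Submodule.iSup_induction' with
    | zero => simp
    | add x y _ _ hx hy => simp [hx, hy]
    | mem h x hx => exact decompose_of_mem_ne 𝒜 hx (by omega)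

/-- If `𝒜 n ≤ P ⊔ S_{> n}` with `P ≤ 𝒜 n`, then `𝒜 n ≤ P`. -/
theorem le_of_le_sup_tailSub {n : ℕ} {P : Submodule R A} (hP : P ≤ 𝒜 n)
    (h : 𝒜 n ≤ P ⊔ tailSub 𝒜 (n + 1)) : 𝒜 n ≤ P := by
  intro x hx
  obtain ⟨p, hp, g, hg, rfl⟩ := Submodule.mem_sup.mp (h hx)
  have hgn : g ∈ 𝒜 n := by simpa using sub_mem hx (hP hp)
  have : g = 0 := by
    rw [← decompose_of_mem_same 𝒜 hgn]
    exact decompose_eq_zero_of_mem_tailSub 𝒜 (Nat.lt_succ_self n) hg
  simpa [this] using hp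

section

variable (φ : B →ₐ[R] Polynomial A) (hφ : Function.Injective φ)
  (hdeg : ∀ n : ℕ, Submodule.map φ.toLinearMap (ℬ n) =
    Submodule.map ((Polynomial.monomial n : A →ₗ[A] Polynomial A).restrictScalars R)
      (⨆ (m : ℕ) (_ : n ≤ m), 𝒜 m))

/-- Monomial of degree `n` as an `R`-linear map. -/
noncomputable abbrev mon (R : Type*) [CommRing R] {A : Type*} [CommRing A] [Algebra R A] (n : ℕ) :
    A →ₗ[R] Polynomial A :=
  (Polynomial.monomial n : A →ₗ[A] Polynomial A).restrictScalars R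

theorem map_mon_mul (i j : ℕ) (P Q : Submodule R A) :
    Submodule.map (mon R i) P * Submodule.map (mon R j) Q = Submodule.map (mon R (i + j)) (P * Q) := by
  apply le_antisymm
  · rw [Submodule.mul_le]
    rintro _ ⟨x, hx, rfl⟩ _ ⟨y, hy, rfl⟩
    exact ⟨x * y, Submodule.mul_mem_mul hx hy, by simp [monomial_mul_monomial]⟩
  · rw [Submodule.map_le_iff_le_comap, Submodule.mul_le]
    intro x hx y hy
    have := Submodule.mul_mem_mul (Submodule.mem_map_of_mem (f := mon R i) hx)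
      (Submodule.mem_map_of_mem (f := mon R j) hy)
    simpa [monomial_mul_monomial] using this

theorem map_mon_pow (P : Submodule R A) (n : ℕ) :
    Submodule.map (mon R 1) P ^ n = Submodule.map (mon R n) (P ^ n) := by
  induction n with
  | zero =>
    rw [pow_zero, pow_zero, Submodule.one_eq_range, Submodule.one_eq_range, ← LinearMap.range_comp]
    congr 1
  | succ n ih => rw [pow_succ, ih, map_mon_mul, ← pow_succ]

theorem mon_injective (n : ℕ) : Function.Injective (mon R (A := A) n) :=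
  fun x y h => Polynomial.monomial_injective n h

include hφ hdeg in
theorem succ_eq_one_mul_iff (n₀ : ℕ) :
    (∀ n : ℕ, n₀ ≤ n → ℬ (n + 1) = ℬ 1 * ℬ n) ↔ (∀ n : ℕ, n₀ ≤ n → 𝒜 (n + 1) = 𝒜 1 * 𝒜 n) := by
  have key : ∀ n, ℬ (n + 1) = ℬ 1 * ℬ n ↔
      tailSub 𝒜 (n + 1) = tailSub 𝒜 1 * tailSub 𝒜 n := by
    intro n
    rw [← (Submodule.map_injective_of_injective (f := φ.toLinearMap) hφ).eq_iff, Submodule.map_mul,
      hdeg, hdeg, hdeg, map_mon_mul, add_comm 1 n,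
      (Submodule.map_injective_of_injective (mon_injective (R := R) (A := A) _)).eq_iff]
  simp only [key]
  refine ⟨fun h n hn => le_antisymm ?_ ((mul_le_add 𝒜 1 n).trans (le_of_eq (by rw [add_comm]))),
    fun h n hn => le_antisymm ?_ ?_⟩
  · refine le_of_le_sup_tailSub 𝒜 ((mul_le_add 𝒜 1 n).trans (le_of_eq (by rw [add_comm]))) ?_
    refine (le_tailSub 𝒜 le_rfl).trans ((h n hn).le.trans ?_)
    rw [tailSub_eq_sup 𝒜 1, tailSub_eq_sup 𝒜 n, Submodule.sup_mul, Submodule.mul_sup,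
      Submodule.mul_sup]
    refine sup_le (sup_le le_sup_left ?_) (sup_le ?_ ?_)
    · refine le_trans ?_ le_sup_right
      refine (mul_le_mul' (le_tailSub 𝒜 (le_refl 1)) le_rfl).trans ((tailSub_mul_le 𝒜 _ _).trans ?_)
      exact le_of_eq (congrArg (tailSub 𝒜) (by omega))
    · refine le_trans ?_ le_sup_right
      refine (mul_le_mul' le_rfl (le_tailSub 𝒜 (le_refl n))).trans ((tailSub_mul_le 𝒜 _ _).trans ?_)
      exact le_of_eq (congrArg (tailSub 𝒜) (by omega))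
    · refine le_trans ?_ le_sup_right
      refine (tailSub_mul_le 𝒜 _ _).trans ?_
      exact tailSub_le 𝒜 fun m hm => le_tailSub 𝒜 (by omega)
  · refine tailSub_le 𝒜 fun m hm => ?_
    obtain ⟨m', rfl⟩ : ∃ m', m = m' + 1 := ⟨m - 1, by omega⟩
    rw [h m' (by omega)]
    exact mul_le_mul' (le_tailSub 𝒜 le_rfl) (le_tailSub 𝒜 (by omega))
  · exact (tailSub_mul_le 𝒜 1 n).trans (le_of_eq (congrArg (tailSub 𝒜) (by omega)))

include hφ hdeg in
theorem eq_one_pow_iff (n₀ : ℕ) (hn₀ : 1 ≤ n₀) :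
    (∀ n : ℕ, n₀ ≤ n → ℬ n = ℬ 1 ^ n) ↔ (∀ n : ℕ, n₀ ≤ n → 𝒜 n = 𝒜 1 ^ n) := by
  have key : ∀ n, ℬ n = ℬ 1 ^ n ↔ tailSub 𝒜 n = tailSub 𝒜 1 ^ n := by
    intro n
    rw [← (Submodule.map_injective_of_injective (f := φ.toLinearMap) hφ).eq_iff, Submodule.map_pow,
      hdeg, hdeg, map_mon_pow,
      (Submodule.map_injective_of_injective (mon_injective (R := R) (A := A) _)).eq_iff]
  simp only [key]
  have hpow : ∀ n, 𝒜 1 ^ n ≤ 𝒜 n := fun n => by simpa using pow_le_mul 𝒜 1 n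
  refine ⟨fun h n hn => le_antisymm ?_ (hpow n), fun h n hn => le_antisymm ?_ (tailSub_pow_le 𝒜 n)⟩
  · have hsplit : ∀ k, tailSub 𝒜 1 ^ k ≤ 𝒜 1 ^ k ⊔ tailSub 𝒜 (k + 1) := by
      intro k
      induction k with
      | zero => rw [pow_zero, pow_zero]; exact le_sup_left
      | succ k ih =>
        rw [pow_succ]
        refine (mul_le_mul' ih (tailSub_eq_sup 𝒜 1).le).trans ?_
        rw [Submodule.sup_mul, Submodule.mul_sup, Submodule.mul_sup]
        refine sup_le (sup_le (le_sup_of_le_left (pow_succ _ _).ge) ?_) (sup_le ?_ ?_)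
        · refine le_sup_of_le_right ?_
          exact (mul_le_mul' ((hpow k).trans (le_tailSub 𝒜 le_rfl)) le_rfl).trans
            ((tailSub_mul_le 𝒜 _ _).trans (tailSub_le 𝒜 fun m hm => le_tailSub 𝒜 (by omega)))
        · refine le_sup_of_le_right ?_
          exact (mul_le_mul' le_rfl (le_tailSub 𝒜 le_rfl)).trans
            ((tailSub_mul_le 𝒜 _ _).trans (tailSub_le 𝒜 fun m hm => le_tailSub 𝒜 (by omega)))
        · refine le_sup_of_le_right ?_
          exact (tailSub_mul_le 𝒜 _ _).trans (tailSub_le 𝒜 fun m hm => le_tailSub 𝒜 (by omega))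
    exact le_of_le_sup_tailSub 𝒜 (hpow n)
      ((le_tailSub 𝒜 le_rfl).trans ((h n hn).le.trans (hsplit n)))
  · refine tailSub_le 𝒜 fun m hm => ?_
    obtain ⟨k, rfl⟩ : ∃ k, m = (n - 1) + (k + 1) := ⟨m - n, by omega⟩
    rw [h _ (by omega), pow_add]
    refine (mul_le_mul' (pow_le_pow_left' (le_tailSub 𝒜 (le_refl 1)) _) ((hpow (k + 1)).trans
      (le_tailSub 𝒜 (show 1 ≤ k + 1 by omega)))).trans ?_
    rw [← pow_succ]
    exact le_of_eq (by congr 1; omega)

end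

end GrothLib.GradedAlg
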