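import Groth.Agent.Lib.GradedAlg.Natural

/-!
# Finiteness of `S♮`
-/

open DirectSum Polynomial

namespace GrothLib.GradedAlg

variable {R A B : Type*} [CommRing R] [CommRing A] [Algebra R A] [CommRing B] [Algebra R B]
  (𝒜 : ℕ → Submodule R A) [GradedAlgebra 𝒜] (ℬ : ℕ → Submodule R B) [GradedAlgebra ℬ]
  (φ : B →ₐ[R] Polynomial A) (hφ : Function.Injective φ)
  (hdeg : ∀ n : ℕ, Submodule.map φ.toLinearMap (ℬ n) =
    Submodule.map ((Polynomial.monomial n : A →ₗ[A] Polynomial A).restrictScalars R)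
      (⨆ (m : ℕ) (_ : n ≤ m), 𝒜 m))

theorem tailSub_zero : tailSub 𝒜 0 = ⊤ := by
  refine eq_top_iff.mpr fun a _ => sum_decompose_mem 𝒜 (P := (· ∈ tailSub 𝒜 0)) (zero_mem _)
    (fun _ _ => add_mem) (fun n x hx => le_tailSub 𝒜 (Nat.zero_le n) hx) a

include hdeg in
theorem exists_preimage {n : ℕ} {a : A} (ha : a ∈ tailSub 𝒜 n) :
    ∃ b ∈ ℬ n, φ b = monomial n a := by
  have := Submodule.mem_map_of_mem (f := (monomial n : A →ₗ[A] A[X]).restrictScalars R) ha
  rw [← hdeg n] at this
  obtain ⟨b, hb, hb'⟩ := this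
  exact ⟨b, hb, hb'⟩

/-- The collapse map `S♮ → S`. -/
noncomputable def collapse : B →+* A := (evalRingHom (1 : A)).comp φ.toRingHom

include hdeg in
theorem collapse_surjective : Function.Surjective (collapse φ) := by
  intro a
  obtain ⟨b, -, hb⟩ := exists_preimage 𝒜 ℬ φ hdeg (n := 0) (a := a) (by simp [tailSub_zero])
  exact ⟨b, by simp [collapse, hb]⟩

include hdeg in
theorem map_irrelevant_collapse :
    Ideal.map (collapse φ) (HomogeneousIdeal.irrelevant ℬ).toIdeal =
      (HomogeneousIdeal.irrelevant 𝒜).toIdeal := by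
  apply le_antisymm
  · rw [HomogeneousIdeal.irrelevant_eq_span ℬ, Ideal.map_span, Ideal.span_le]
    rintro _ ⟨b, hb, rfl⟩
    obtain ⟨n, hn, hb⟩ := Set.mem_iUnion₂.mp hb
    have h1 : φ.toLinearMap b ∈ Submodule.map φ.toLinearMap (ℬ n) := Submodule.mem_map_of_mem hb
    rw [hdeg n] at h1
    obtain ⟨a, ha, hab⟩ := h1
    have h2 : collapse φ b = a := by
      have hab' : φ b = monomial n a := hab.symm
      simp [collapse, hab']
    rw [h2]
    have h3 : tailSub 𝒜 n ≤ (HomogeneousIdeal.irrelevant 𝒜).toIdeal.restrictScalars R :=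
      tailSub_le 𝒜 fun m hm x hx => HomogeneousIdeal.mem_irrelevant_of_mem 𝒜 (by omega) hx
    exact h3 ha
  · rw [HomogeneousIdeal.irrelevant_eq_span 𝒜, Ideal.span_le]
    intro a ha
    obtain ⟨i, hi, hai⟩ := Set.mem_iUnion₂.mp ha
    obtain ⟨b, hb, hb'⟩ := exists_preimage 𝒜 ℬ φ hdeg (n := 1) (le_tailSub 𝒜 hi hai)
    have : collapse φ b = a := by simp [collapse, hb']
    rw [← this]
    exact Ideal.mem_map_of_mem _ (HomogeneousIdeal.mem_irrelevant_of_mem ℬ one_pos hb)

include hdeg hφ in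
theorem finiteType_natural_iff :
    Algebra.FiniteType (ℬ 0) B ↔ Algebra.FiniteType (𝒜 0) A := by
  classical
  constructor
  · intro h
    refine finiteType_of_irrelevant_fg 𝒜 ?_
    rw [← map_irrelevant_collapse 𝒜 ℬ φ hdeg]
    exact (irrelevant_fg_of_finiteType ℬ).map _
  · intro h
    obtain ⟨r, e, d, hd, he, hadj⟩ := exists_homogeneous_generators 𝒜
    let T : Set B := {b | ∃ (i : Fin r) (j : Fin (d i + 1)), b ∈ ℬ j ∧ φ b = monomial (j : ℕ) (e i)}
    have hT : T.Finite := by
      refine Set.Finite.subset (((Set.finite_range (fun p : (Σ i : Fin r, Fin (d i + 1)) =>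
        (monomial (p.2 : ℕ) (e p.1)))).preimage hφ.injOn)) ?_
      rintro b ⟨i, j, -, hb⟩
      exact ⟨⟨i, j⟩, hb.symm⟩
    refine ⟨⟨hT.toFinset, ?_⟩⟩
    rw [Set.Finite.coe_toFinset]
    -- degree zero maps onto the constants
    have h0 : ∀ a : A, ∃ c ∈ Algebra.adjoin (ℬ 0) T, φ c = C a := fun a => by
      obtain ⟨c, hc, hc'⟩ := exists_preimage 𝒜 ℬ φ hdeg (n := 0) (a := a) (by simp [tailSub_zero])
      exact ⟨c, Subalgebra.algebraMap_mem (Algebra.adjoin (ℬ 0) T) (⟨c, hc⟩ : ℬ 0), by simpa using hc'⟩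
    have he' : ∀ i, ∀ j, j ≤ d i → ∃ c ∈ Algebra.adjoin (ℬ 0) T, φ c = monomial j (e i) := fun i j hj => by
      obtain ⟨c, hc, hc'⟩ := exists_preimage 𝒜 ℬ φ hdeg (n := j) (le_tailSub 𝒜 hj (he i))
      exact ⟨c, Algebra.subset_adjoin ⟨i, ⟨j, Nat.lt_succ_of_le hj⟩, hc, hc'⟩, hc'⟩
    -- the set of `(n, a)` reached
    let Q : A → ℕ → Prop := fun a n => ∀ j, j ≤ n → ∃ c ∈ Algebra.adjoin (ℬ 0) T, φ c = monomial j a
    have hQ1 : Q 1 0 := fun j hj => ⟨1, one_mem _, by simp [Nat.le_zero.mp hj]⟩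
    have hQmul : ∀ a b m n, Q a m → Q b n → Q (a * b) (m + n) := by
      intro a b m n ha hb j hj
      obtain ⟨c, hc, hc'⟩ := ha (min j m) (min_le_right _ _)
      obtain ⟨c₂, hc₂, hc₂'⟩ := hb (j - min j m) (by omega)
      exact ⟨c * c₂, mul_mem hc hc₂, by
        rw [map_mul, hc', hc₂', monomial_mul_monomial]; rw [show min j m + (j - min j m) = j by omega]⟩
    have hQpow : ∀ i k, Q (e i ^ k) (k * d i) := by
      intro i k
      induction k with
      | zero => simpa using hQ1
      | succ k ih =>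
        rw [pow_succ, add_mul, one_mul]
        exact hQmul _ _ _ _ ih (fun j hj => he' i j hj)
    have hQprod : ∀ (s : Finset (Fin r)) (k : Fin r → ℕ),
        Q (∏ i ∈ s, e i ^ k i) (∑ i ∈ s, k i * d i) := by
      intro s k
      induction s using Finset.induction_on with
      | empty => simpa using hQ1
      | insert i s hi ih =>
        rw [Finset.prod_insert hi, Finset.sum_insert hi]
        exact hQmul _ _ _ _ (hQpow i (k i)) ih
    refine eq_top_iff.mpr fun b _ => sum_decompose_mem ℬ (P := (· ∈ Algebra.adjoin (ℬ 0) T))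
      (zero_mem _) (fun _ _ => add_mem) (fun n b hb => ?_) b
    have h1 : φ.toLinearMap b ∈ Submodule.map φ.toLinearMap (ℬ n) := Submodule.mem_map_of_mem hb
    rw [hdeg n] at h1
    obtain ⟨a, ha, hab⟩ := h1
    suffices H : ∃ c ∈ Algebra.adjoin (ℬ 0) T, φ c = monomial n a by
      obtain ⟨c, hc, hc'⟩ := H
      have : c = b := hφ (hc'.trans hab)
      exact this ▸ hc
    let S : Submodule (𝒜 0) A :=
      { carrier := {a | ∃ c ∈ Algebra.adjoin (ℬ 0) T, φ c = monomial n a}
        add_mem' := by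
          rintro x y ⟨c, hc, hc'⟩ ⟨c₂, hc₂, hc₂'⟩
          exact ⟨c + c₂, add_mem hc hc₂, by rw [map_add, hc', hc₂', map_add]⟩
        zero_mem' := ⟨0, zero_mem _, by simp⟩
        smul_mem' := by
          rintro s x ⟨c, hc, hc'⟩
          obtain ⟨c₀, hc₀, hc₀'⟩ := h0 (s : A)
          refine ⟨c₀ * c, mul_mem hc₀ hc, ?_⟩
          rw [map_mul, hc₀', hc', C_mul_monomial]
          rfl }
    have hm : ∀ m, n ≤ m → ∀ x ∈ 𝒜 m, x ∈ S := by
      intro m hnm x hx
      refine Submodule.span_le.mpr ?_ (mem_span_monomials 𝒜 he hadj hx)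
      rintro _ ⟨k, hk, rfl⟩
      exact hQprod Finset.univ k n (hk ▸ hnm)
    clear hab
    induction ha using Submodule.iSup_induction' with
    | zero => exact S.zero_mem
    | add x y _ _ hx hy => exact S.add_mem hx hy
    | mem m x hx =>
      induction hx using Submodule.iSup_induction' with
      | zero => exact S.zero_mem
      | add x y _ _ hx hy => exact S.add_mem hx hy
      | mem h x hx => exact hm m h x hx

include hdeg hφ in
theorem isNoetherianRing_natural_iff : IsNoetherianRing B ↔ IsNoetherianRing A := by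
  constructor
  · intro h
    exact isNoetherianRing_of_surjective B A (collapse φ) (collapse_surjective 𝒜 ℬ φ hdeg)
  · intro h
    have hft : Algebra.FiniteType (𝒜 0) A := ((isNoetherianRing_iff 𝒜).mp h).2
    let f : (ℬ 0) →+* A :=
      { toFun := fun b => collapse φ b
        map_one' := map_one _
        map_mul' := fun x y => map_mul (collapse φ) (x : B) (y : B)
        map_zero' := map_zero _
        map_add' := fun x y => map_add (collapse φ) (x : B) (y : B) }
    have hinj : Function.Injective f := by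
      intro x y hxy
      apply Subtype.ext
      apply hφ
      have key : ∀ z : ℬ 0, φ z = C (collapse φ z) := by
        intro z
        have h1 : φ.toLinearMap z ∈ Submodule.map φ.toLinearMap (ℬ 0) := Submodule.mem_map_of_mem z.2
        rw [hdeg 0] at h1
        obtain ⟨a, -, hab⟩ := h1
        have hab' : φ z = monomial 0 a := hab.symm
        simp [collapse, hab']
      rw [key x, key y]
      exact congrArg C hxy
    have hsurj : Function.Surjective f := by
      intro a
      obtain ⟨b, hb, hb'⟩ := exists_preimage 𝒜 ℬ φ hdeg (n := 0) (a := a) (by simp [tailSub_zero])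
      exact ⟨⟨b, hb⟩, by simp [f, collapse, hb']⟩
    exact (isNoetherianRing_iff ℬ).mpr
      ⟨isNoetherianRing_of_ringEquiv A (RingEquiv.ofBijective f ⟨hinj, hsurj⟩).symm,
        (finiteType_natural_iff 𝒜 ℬ φ hφ hdeg).mpr hft⟩

end GrothLib.GradedAlg
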