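import Groth.Agent.Lib.GradedAlg.NaturalFinite
import Mathlib.RingTheory.Nilpotent.Lemmas

/-!
# Radicals in `S♮`, and the reduction `S♮ ⊗ S₀`
-/

open DirectSum Polynomial

namespace GrothLib.GradedAlg

universe u

variable {R A B : Type u} [CommRing R] [CommRing A] [Algebra R A] [CommRing B] [Algebra R B]
  (𝒜 : ℕ → Submodule R A) [GradedAlgebra 𝒜] (ℬ : ℕ → Submodule R B) [GradedAlgebra ℬ]
  (φ : B →ₐ[R] A[X]) (hφ : Function.Injective φ)
  (hdeg : ∀ n : ℕ, Submodule.map φ.toLinearMap (ℬ n) =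
      Submodule.map ((Polynomial.monomial n : A →ₗ[A] A[X]).restrictScalars R) (tailSub 𝒜 n))

include hdeg in
theorem exists_image {n : ℕ} {b : B} (hb : b ∈ ℬ n) : ∃ a ∈ tailSub 𝒜 n, φ b = monomial n a := by
  have h1 : φ.toLinearMap b ∈ Submodule.map φ.toLinearMap (ℬ n) := Submodule.mem_map_of_mem hb
  rw [hdeg n] at h1
  obtain ⟨a, ha, hab⟩ := h1
  exact ⟨a, ha, hab.symm⟩

theorem tailSub_antitone {n m : ℕ} (h : n ≤ m) : tailSub 𝒜 m ≤ tailSub 𝒜 n :=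
  tailSub_le 𝒜 fun _ hm => le_tailSub 𝒜 (h.trans hm)

theorem mem_irrelevant_of_mem_tailSub {n : ℕ} (hn : 0 < n) {a : A} (ha : a ∈ tailSub 𝒜 n) :
    a ∈ (HomogeneousIdeal.irrelevant 𝒜).toIdeal :=
  (tailSub_le 𝒜 (P := (HomogeneousIdeal.irrelevant 𝒜).toIdeal.restrictScalars R)
    fun _ hm _ hx => HomogeneousIdeal.mem_irrelevant_of_mem 𝒜 (hn.trans_le hm) hx) ha

theorem pow_mem_tailSub {n : ℕ} {a : A} (ha : a ∈ tailSub 𝒜 n) (k : ℕ) : a ^ k ∈ tailSub 𝒜 (k * n) := by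
  induction k with
  | zero => rw [pow_zero, zero_mul, tailSub_zero]; trivial
  | succ k ih =>
    rw [pow_succ, Nat.add_mul, one_mul]
    exact tailSub_mul_le 𝒜 _ _ (Submodule.mul_mem_mul ih ha)

include hdeg hφ in
theorem exists_mem_span_preimage {ι : Type*} {d : ι → ℕ} {f : ι → A} (hf : ∀ i, f i ∈ 𝒜 (d i)) {fn : ι → B}
    (hfn : ∀ i, φ (fn i) = monomial (d i) (f i)) {N : ℕ} {x : A} (hx : x ∈ tailSub 𝒜 N) (s : Finset ι)
    (c : ι → A) (hc : ∑ i ∈ s, c i * f i = x) (hd : ∀ i ∈ s, d i ≤ N) (b : B) (hb : φ b = monomial N x) :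
    b ∈ Ideal.span (Set.range fn) := by
  classical
  let T := (DirectSum.decompose 𝒜 x).support
  have hT : ∀ p ∈ T, N ≤ p := fun p hp => by
    by_contra hlt
    exact DFinsupp.mem_support_iff.1 hp (Subtype.ext (decompose_eq_zero_of_mem_tailSub 𝒜 (not_le.1 hlt) hx))
  have hpre : ∀ i p, ∃ b' : B, i ∈ s → N ≤ p →
      φ b' = monomial (N - d i) (DirectSum.decompose 𝒜 (c i) (p - d i) : A) := by
    intro i p
    by_cases h : i ∈ s ∧ N ≤ p
    · obtain ⟨b', -, hb'⟩ := exists_preimage 𝒜 ℬ φ hdeg (n := N - d i)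
        (le_tailSub 𝒜 (show N - d i ≤ p - d i by omega) (DirectSum.decompose 𝒜 (c i) (p - d i)).2)
      exact ⟨b', fun _ _ => hb'⟩
    · exact ⟨0, fun h1 h2 => absurd ⟨h1, h2⟩ h⟩
  choose g hg using hpre
  have hbsum : b = ∑ p ∈ T, ∑ i ∈ s, g i p * fn i := by
    apply hφ
    rw [hb, map_sum]
    conv_lhs => rw [← DirectSum.sum_support_decompose 𝒜 x, map_sum]
    refine Finset.sum_congr rfl fun p hp => ?_
    rw [map_sum]
    have hxp : (DirectSum.decompose 𝒜 x p : A) =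
        ∑ i ∈ s, (DirectSum.decompose 𝒜 (c i) (p - d i) : A) * f i := by
      rw [← hc, DirectSum.decompose_sum, DFinsupp.finsetSum_apply, AddSubmonoidClass.coe_finsetSum]
      exact Finset.sum_congr rfl fun i hi =>
        DirectSum.coe_decompose_mul_of_right_mem_of_le 𝒜 (hf i) ((hd i hi).trans (hT p hp))
    rw [hxp, map_sum]
    refine Finset.sum_congr rfl fun i hi => ?_
    rw [map_mul φ, hg i p hi (hT p hp), hfn, monomial_mul_monomial, Nat.sub_add_cancel (hd i hi)]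
  rw [hbsum]
  exact sum_mem fun p _ => sum_mem fun i _ => Ideal.mul_mem_left _ _ (Ideal.subset_span ⟨i, rfl⟩)

include hdeg hφ in
theorem exists_pow_mem_span_natural {ι : Type*} {d : ι → ℕ} {f : ι → A} (hf : ∀ i, f i ∈ 𝒜 (d i))
    (hrad : ∀ g ∈ (HomogeneousIdeal.irrelevant 𝒜).toIdeal, ∃ n : ℕ, 0 < n ∧ g ^ n ∈ Ideal.span (Set.range f))
    {fn : ι → B} (hfn : ∀ i, φ (fn i) = monomial (d i) (f i))
    (g : B) (hg : g ∈ (HomogeneousIdeal.irrelevant ℬ).toIdeal) :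
    ∃ n : ℕ, 0 < n ∧ g ^ n ∈ Ideal.span (Set.range fn) := by
  have key : (HomogeneousIdeal.irrelevant ℬ).toIdeal ≤ (Ideal.span (Set.range fn)).radical := by
    refine (HomogeneousIdeal.toIdeal_irrelevant_le _).mpr fun n hn b hb => ?_
    obtain ⟨a, ha, hab⟩ := exists_image 𝒜 ℬ φ hdeg hb
    obtain ⟨k, hk, hak⟩ := hrad a (mem_irrelevant_of_mem_tailSub 𝒜 hn ha)
    obtain ⟨c, hc⟩ := Finsupp.mem_span_range_iff_exists_finsupp.1 hak
    let M := c.support.sup d + 1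
    have hkM : φ (b ^ (k * M)) = monomial (k * M * n) (a ^ (k * M)) := by
      rw [map_pow, hab, monomial_pow, mul_comm n]
    refine ⟨k * M, exists_mem_span_preimage 𝒜 ℬ φ hφ hdeg hf hfn (pow_mem_tailSub 𝒜 ha (k * M)) c.support
      (fun i => (a ^ k) ^ (c.support.sup d) * c i) ?_ (fun i hi => ?_) _ hkM⟩
    · simp only [mul_assoc]
      rw [← Finset.mul_sum, show ∑ i ∈ c.support, c i * f i = a ^ k from hc, pow_mul, ← pow_succ]
    · have h1 : d i ≤ c.support.sup d := Finset.le_sup hi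
      calc d i ≤ M := Nat.le_succ_of_le h1
        _ ≤ k * M := Nat.le_mul_of_pos_left _ hk
        _ ≤ k * M * n := Nat.le_mul_of_pos_right _ hn
  obtain ⟨n, hn⟩ := key hg
  exact ⟨n + 1, n.succ_pos, by rw [pow_succ]; exact Ideal.mul_mem_right _ _ hn⟩

variable {C : Type u} [CommRing C] [Algebra R C] (𝒞 : ℕ → Submodule R C) [GradedAlgebra 𝒞]
  (π : ℬ →+*ᵍ 𝒞)
  (hker : RingHom.ker π.toRingHom =
    Ideal.span (⇑φ ⁻¹' (⇑(Polynomial.C : A →+* A[X]) '' ((HomogeneousIdeal.irrelevant 𝒜).toIdeal : Set A))))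
  (ρ : 𝒞 →+*ᵍ 𝒜) (hρ : ∀ (n : ℕ) (b : B), b ∈ ℬ n → ρ (π b) = GradedRing.proj 𝒜 n ((φ b).coeff n))

include hdeg hρ in
theorem surjective_rho : Function.Surjective ρ := by
  classical
  intro a
  refine sum_decompose_mem 𝒜 (P := (· ∈ Set.range ρ)) ⟨0, map_zero ρ⟩
    (fun x y ⟨u, hu⟩ ⟨v, hv⟩ => ⟨u + v, by rw [map_add, hu, hv]⟩) (fun n x hx => ?_) a
  obtain ⟨b, hb, hb'⟩ := exists_preimage 𝒜 ℬ φ hdeg (n := n) (le_tailSub 𝒜 le_rfl hx)
  refine ⟨π b, ?_⟩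
  rw [hρ n b hb, hb', coeff_monomial_same, GradedRing.proj_apply, decompose_of_mem_same 𝒜 hx]

include hφ hdeg hker in
/-- Elements `monomial n (s * t)` with `s` irrelevant and `t` of degree `≥ n` die in `S♮ ⊗ S₀`. -/
theorem map_eq_zero_of_mul {n : ℕ} {s t : A} (hs : s ∈ (HomogeneousIdeal.irrelevant 𝒜).toIdeal)
    (ht : t ∈ tailSub 𝒜 n) {b : B} (hb : φ b = monomial n (s * t)) : π b = 0 := by
  obtain ⟨u, -, hu⟩ := exists_preimage 𝒜 ℬ φ hdeg (n := 0) (a := s) (by simp [tailSub_zero])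
  obtain ⟨v, -, hv⟩ := exists_preimage 𝒜 ℬ φ hdeg (n := n) ht
  have hbuv : b = u * v := hφ (by rw [hb, map_mul φ, hu, hv, monomial_mul_monomial, zero_add])
  have hu' : u ∈ RingHom.ker π.toRingHom := by
    rw [hker]
    exact Ideal.subset_span ⟨s, hs, by rw [hu, monomial_zero_left]⟩
  have h0 : π u = 0 := hu'
  rw [hbuv, map_mul, h0, zero_mul]

include hdeg hρ in
theorem exists_image_of_rho_eq_zero {n : ℕ} {b : B} (hb : b ∈ ℬ n) (h0 : ρ (π b) = 0) :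
    ∃ a ∈ tailSub 𝒜 (n + 1), φ b = monomial n a := by
  obtain ⟨a, ha, hab⟩ := exists_image 𝒜 ℬ φ hdeg hb
  refine ⟨a, ?_, hab⟩
  rw [hρ n b hb, hab, coeff_monomial_same, GradedRing.proj_apply] at h0
  rw [tailSub_eq_sup] at ha
  obtain ⟨p, hp, g, hg, rfl⟩ := Submodule.mem_sup.1 ha
  rw [DirectSum.decompose_add, DirectSum.add_apply, Submodule.coe_add, decompose_of_mem_same 𝒜 hp,
    decompose_eq_zero_of_mem_tailSub 𝒜 (Nat.lt_succ_self n) hg, add_zero] at h0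
  rw [h0, zero_add]
  exact hg

include hφ hdeg hker hρ in
theorem isNilpotent_of_rho_eq_zero (hπ : Function.Surjective π) (c : C) (hc : ρ c = 0) : IsNilpotent c := by
  classical
  rw [← mem_nilradical]
  obtain ⟨b, rfl⟩ := hπ c
  rw [← DirectSum.sum_support_decompose ℬ b, map_sum]
  refine sum_mem fun n _ => ?_
  have hb := (DirectSum.decompose ℬ b n).2
  have h0 : ρ (π (DirectSum.decompose ℬ b n : B)) = 0 := by
    rw [GradedRingHom.map_directSumDecompose, GradedRingHom.map_directSumDecompose, hc,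
      DirectSum.decompose_zero, DirectSum.zero_apply, ZeroMemClass.coe_zero]
  obtain ⟨a, ha, hab⟩ := exists_image_of_rho_eq_zero 𝒜 ℬ φ hdeg 𝒞 π ρ hρ hb h0
  refine mem_nilradical.2 ⟨n + 1, ?_⟩
  rw [← map_pow]
  refine map_eq_zero_of_mul 𝒜 ℬ φ hφ hdeg 𝒞 π hker (n := (n + 1) * n)
    (mem_irrelevant_of_mem_tailSub 𝒜 n.succ_pos ha)
    (tailSub_antitone 𝒜 (by rw [mul_comm]) (pow_mem_tailSub 𝒜 ha n)) ?_
  rw [map_pow, hab, monomial_pow, mul_comm n, pow_succ']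

include hφ hdeg hker hρ in
theorem injOn_rho (hπ : Function.Surjective π) {n₀ : ℕ}
    (hgen : ∀ n : ℕ, n₀ ≤ n → 𝒜 (n + 1) = 𝒜 1 * 𝒜 n) (n : ℕ) (hn : n₀ ≤ n) :
    Set.InjOn ρ (𝒞 n) := by
  classical
  suffices ∀ x ∈ 𝒞 n, ρ x = 0 → x = 0 by
    intro x hx y hy h
    exact sub_eq_zero.1 (this _ (sub_mem hx hy) (by rw [map_sub, h, sub_self]))
  intro x hx h0
  obtain ⟨b, rfl⟩ := hπ x
  have hb := (DirectSum.decompose ℬ b n).2
  have hbn : π (DirectSum.decompose ℬ b n : B) = π b := by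
    rw [GradedRingHom.map_directSumDecompose, decompose_of_mem_same 𝒞 hx]
  rw [← hbn] at h0 ⊢
  obtain ⟨a, ha, hab⟩ := exists_image_of_rho_eq_zero 𝒜 ℬ φ hdeg 𝒞 π ρ hρ hb h0
  have hle : tailSub 𝒜 (n + 1) ≤ 𝒜 1 * tailSub 𝒜 n := tailSub_le 𝒜 fun m hm => by
    obtain ⟨m, rfl⟩ : ∃ m', m = m' + 1 := ⟨m - 1, by omega⟩
    rw [hgen m (by omega)]
    exact mul_le_mul' le_rfl (le_tailSub 𝒜 (by omega))
  have key : ∀ a' ∈ 𝒜 1 * tailSub 𝒜 n, ∀ b' : B, φ b' = monomial n a' → π b' = 0 := by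
    intro a' ha'
    induction ha' using Submodule.mul_induction_on' with
    | mem_mul_mem s hs t ht =>
      exact fun b' hb' => map_eq_zero_of_mul 𝒜 ℬ φ hφ hdeg 𝒞 π hker
        (HomogeneousIdeal.mem_irrelevant_of_mem 𝒜 one_pos hs) ht hb'
    | add x hx y hy ihx ihy =>
      intro b' hb'
      have hxt : x ∈ tailSub 𝒜 n := tailSub_antitone 𝒜 (by omega)
        (tailSub_mul_le 𝒜 1 n (mul_le_mul' (le_tailSub 𝒜 le_rfl) le_rfl hx))
      obtain ⟨bx, -, hbx⟩ := exists_preimage 𝒜 ℬ φ hdeg (n := n) hxt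
      have hby : φ (b' - bx) = monomial n y := by rw [map_sub, hb', hbx, map_add, add_sub_cancel_left]
      have := ihy _ hby
      rw [map_sub, ihx bx hbx, sub_zero] at this
      exact this
  exact key a (hle ha) _ hab

end GrothLib.GradedAlg
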