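import Groth.Agent.Lib.GradedAlg.ProjMap

/-!
# `Proj.map` of a homomorphism bijective in large degrees
-/

universe u

open AlgebraicGeometry CategoryTheory HomogeneousLocalization

namespace GrothLib.GradedAlg

variable {R A B : Type u} [CommRing R] [CommRing A] [Algebra R A] {𝒜 : ℕ → Submodule R A}
  [GradedAlgebra 𝒜] [CommRing B] [Algebra R B] {ℬ : ℕ → Submodule R B} [GradedAlgebra ℬ]
  (φ : 𝒜 →+*ᵍ ℬ) (hφ : HomogeneousIdeal.irrelevant ℬ ≤ (HomogeneousIdeal.irrelevant 𝒜).map φ)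

theorem away_map_injective_of_eventually {n₀ : ℕ} (hinj : ∀ n : ℕ, n₀ ≤ n → Set.InjOn φ (𝒜 n))
    {i : ℕ} (hi : 0 < i) (s : A) (hs : s ∈ 𝒜 i) : Function.Injective (Away.map φ s) := by
  rw [injective_iff_map_eq_zero]
  intro y hy
  obtain ⟨n, x, hx, rfl⟩ := Away.mk_surjective 𝒜 hs y
  rw [Away.map_mk] at hy
  apply HomogeneousLocalization.val_injective
  have h0 := congrArg HomogeneousLocalization.val hy
  rw [Away.val_mk, HomogeneousLocalization.val_zero, Localization.mk_eq_mk',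
    IsLocalization.mk'_eq_zero_iff] at h0 ⊢
  obtain ⟨⟨_, k, rfl⟩, hk⟩ := h0
  refine ⟨⟨s ^ (n₀ + k), n₀ + k, rfl⟩, ?_⟩
  have hk' : φ s ^ k * φ x = 0 := hk
  have hmem : s ^ (n₀ + k) * x ∈ 𝒜 ((n₀ + k) • i + n • i) :=
    SetLike.mul_mem_graded (SetLike.pow_mem_graded _ hs) hx
  refine hinj _ ?_ hmem (zero_mem _) ?_
  · calc n₀ ≤ n₀ + k := Nat.le_add_right _ _
      _ ≤ (n₀ + k) • i := Nat.le_mul_of_pos_right _ hi
      _ ≤ _ := Nat.le_add_right _ _
  · rw [map_mul, map_pow, pow_add, mul_assoc, hk', mul_zero, map_zero]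

theorem isIso_map_of_surjective_of_eventually (hsurj : Function.Surjective φ) {n₀ : ℕ}
    (hinj : ∀ n : ℕ, n₀ ≤ n → Set.InjOn φ (𝒜 n)) : IsIso (Proj.map φ hφ) :=
  of_forall_away φ hφ (MorphismProperty.isomorphisms Scheme.{u}) fun _ hi s hs => by
    haveI : IsIso (CommRingCat.ofHom (Away.map φ s)) :=
      (ConcreteCategory.isIso_iff_bijective _).mpr
        ⟨away_map_injective_of_eventually φ hinj hi s hs, away_map_surjective φ hsurj s hs⟩
    exact inferInstanceAs (IsIso (Spec.map (CommRingCat.ofHom (Away.map φ s))))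

theorem bijective_map_of_surjective_of_isNilpotent (hsurj : Function.Surjective φ)
    (hker : ∀ a : A, φ a = 0 → IsNilpotent a) : Function.Bijective (Proj.map φ hφ).base := by
  have := isClosedImmersion_map φ hφ hsurj
  have hc := (Proj.map φ hφ).isClosedEmbedding
  refine ⟨hc.injective, Set.range_eq_univ.1 ?_⟩
  rw [← hc.isClosed_range.closure_eq]
  exact (denseRange_map φ hφ hker).closure_range

end GrothLib.GradedAlg
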