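import Groth.Agent.Lib.GradedAlg.Basic

/-!
# The Veronese subring of a graded algebra of finite type is of finite type over degree zero
-/

open DirectSum

namespace GrothLib.GradedAlg

variable {R A B : Type*} [CommRing R] [CommRing A] [Algebra R A] [CommRing B] [Algebra R B]
  (𝒜 : ℕ → Submodule R A) [GradedAlgebra 𝒜] (ℬ : ℕ → Submodule R B) [GradedAlgebra ℬ]

theorem finiteType_veronese [Algebra.FiniteType (𝒜 0) A] {d : ℕ} (hd : 0 < d) (φ : B →ₐ[R] A)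
    (hφ : Function.Injective φ)
    (hdeg : ∀ n : ℕ, Submodule.map φ.toLinearMap (ℬ n) = 𝒜 (n * d)) :
    Algebra.FiniteType (ℬ 0) B := by
  classical
  obtain ⟨r, e, δ, hδ, he, hadj⟩ := exists_homogeneous_generators 𝒜
  -- the finitely many monomials that generate
  let G : Set A :=
    Set.range (fun i => e i ^ d) ∪
      {x | ∃ k : Fin r → Fin d, d ∣ ∑ i, (k i : ℕ) * δ i ∧ ∏ i, e i ^ (k i : ℕ) = x}
  have hG : G.Finite := (Set.finite_range _).union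
    ((Set.finite_range (fun k : Fin r → Fin d => ∏ i, e i ^ (k i : ℕ))).subset
      fun x ⟨k, _, hk⟩ => ⟨k, hk⟩)
  have hrange : ∀ n, ∀ a ∈ 𝒜 (n * d), ∃ b ∈ ℬ n, φ b = a := by
    intro n a ha
    rw [← hdeg n, Submodule.mem_map] at ha
    exact ha
  have hGrange : G ⊆ Set.range φ := by
    rintro x (⟨i, rfl⟩ | ⟨k, ⟨m, hm⟩, rfl⟩)
    · obtain ⟨b, -, hb⟩ := hrange (δ i) (e i ^ d) (by
        have h := SetLike.pow_mem_graded d (he i); rwa [smul_eq_mul, mul_comm] at h)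
      exact ⟨b, hb⟩
    · obtain ⟨b, -, hb⟩ := hrange m (∏ i, e i ^ (k i : ℕ)) (by
        have h := monomial_mem 𝒜 he (fun i => (k i : ℕ)); rwa [hm, mul_comm] at h)
      exact ⟨b, hb⟩
  let T : Set B := φ ⁻¹' G
  have hT : T.Finite := hG.preimage hφ.injOn
  refine ⟨⟨hT.toFinset, ?_⟩⟩
  rw [Set.Finite.coe_toFinset]
  refine eq_top_iff.mpr fun b _ => sum_decompose_mem ℬ (P := (· ∈ Algebra.adjoin (ℬ 0) T))
    (zero_mem _) (fun _ _ => add_mem) (fun n b hb => ?_) b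
  -- `φ` of the subalgebra, as a set
  let S : Submodule (𝒜 0) A :=
    { carrier := φ '' (Algebra.adjoin (ℬ 0) T : Set B)
      add_mem' := by
        rintro _ _ ⟨x, hx, rfl⟩ ⟨y, hy, rfl⟩
        exact ⟨x + y, add_mem hx hy, map_add φ x y⟩
      zero_mem' := ⟨0, zero_mem _, map_zero φ⟩
      smul_mem' := by
        rintro c _ ⟨x, hx, rfl⟩
        obtain ⟨c', hc', hc''⟩ := hrange 0 (c : A) (by rw [zero_mul]; exact c.2)
        refine ⟨c' * x, mul_mem (Subalgebra.algebraMap_mem (Algebra.adjoin (ℬ 0) T)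
          (⟨c', hc'⟩ : ℬ 0)) hx, ?_⟩
        rw [map_mul, hc'']
        rfl }
  have hGS : ∀ x ∈ G, ∃ y ∈ Algebra.adjoin (ℬ 0) T, φ y = x := fun x hx => by
    obtain ⟨y, rfl⟩ := hGrange hx
    exact ⟨y, Algebra.subset_adjoin hx, rfl⟩
  have hle : Submodule.span (𝒜 0)
      {x : A | ∃ k : Fin r → ℕ, ∑ i, k i * δ i = n * d ∧ ∏ i, e i ^ k i = x} ≤ S := by
    rw [Submodule.span_le]
    rintro _ ⟨k, hk, rfl⟩
    have h1 : ∀ i, ∃ y ∈ Algebra.adjoin (ℬ 0) T, φ y = e i ^ d := fun i =>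
      hGS _ (Or.inl ⟨i, rfl⟩)
    choose y hy hy' using h1
    let s : Fin r → Fin d := fun i => ⟨k i % d, Nat.mod_lt _ hd⟩
    have hdiv : d ∣ ∑ i, (s i : ℕ) * δ i := by
      have h2 : ∑ i, k i * δ i = d * (∑ i, (k i / d) * δ i) + ∑ i, (s i : ℕ) * δ i := by
        rw [Finset.mul_sum, ← Finset.sum_add_distrib]
        refine Finset.sum_congr rfl fun i _ => ?_
        rw [← mul_assoc, ← add_mul]
        simp [s, Nat.div_add_mod]
      rw [hk] at h2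
      exact (Nat.dvd_add_right (Dvd.intro _ rfl)).mp (h2 ▸ Dvd.intro_left n rfl)
    obtain ⟨z, hz, hz'⟩ := hGS _ (Or.inr ⟨s, hdiv, rfl⟩)
    refine ⟨(∏ i, y i ^ (k i / d)) * z,
      mul_mem (Subalgebra.prod_mem _ fun i _ => pow_mem (hy i) _) hz, ?_⟩
    rw [map_mul, map_prod, hz', ← Finset.prod_mul_distrib]
    refine Finset.prod_congr rfl fun i _ => ?_
    rw [map_pow, hy', ← pow_mul, ← pow_add]
    simp [s, Nat.div_add_mod]
  have hφb : φ b ∈ 𝒜 (n * d) := hdeg n ▸ Submodule.mem_map_of_mem hb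
  obtain ⟨x, hx, hxb⟩ := hle (mem_span_monomials 𝒜 he hadj hφb)
  exact hφ hxb ▸ hx

/-- The degree-zero part of a Veronese is the degree-zero part. -/
theorem exists_ringEquiv_zero {d : ℕ} (φ : B →ₐ[R] A) (hφ : Function.Injective φ)
    (hdeg : ∀ n : ℕ, Submodule.map φ.toLinearMap (ℬ n) = 𝒜 (n * d)) :
    Nonempty ((ℬ 0) ≃+* (𝒜 0)) := by
  have h0 : Submodule.map φ.toLinearMap (ℬ 0) = 𝒜 0 := by rw [hdeg 0, zero_mul]
  let f : (ℬ 0) →+* (𝒜 0) :=
    { toFun := fun b => ⟨φ b, h0 ▸ Submodule.mem_map_of_mem b.2⟩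
      map_one' := Subtype.ext (map_one φ)
      map_mul' := fun x y => Subtype.ext (map_mul φ (x : B) (y : B))
      map_zero' := Subtype.ext (map_zero φ)
      map_add' := fun x y => Subtype.ext (map_add φ (x : B) (y : B)) }
  refine ⟨RingEquiv.ofBijective f ⟨fun x y h => Subtype.ext (hφ (congrArg Subtype.val h)), ?_⟩⟩
  rintro ⟨a, ha⟩
  rw [← h0] at ha
  obtain ⟨b, hb, rfl⟩ := ha
  exact ⟨⟨b, hb⟩, rfl⟩

theorem isNoetherianRing_veronese [IsNoetherianRing A] {d : ℕ} (hd : 0 < d) (φ : B →ₐ[R] A)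
    (hφ : Function.Injective φ)
    (hdeg : ∀ n : ℕ, Submodule.map φ.toLinearMap (ℬ n) = 𝒜 (n * d)) :
    IsNoetherianRing B := by
  obtain ⟨h0, _⟩ := (isNoetherianRing_iff 𝒜).mp inferInstance
  obtain ⟨eq⟩ := exists_ringEquiv_zero 𝒜 ℬ φ hφ hdeg
  exact (isNoetherianRing_iff ℬ).mpr
    ⟨isNoetherianRing_of_ringEquiv _ eq.symm, finiteType_veronese 𝒜 ℬ hd φ hφ hdeg⟩

end GrothLib.GradedAlg
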