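import Groth.Agent.Lib.GradedAlg.Veronese
import Mathlib.RingTheory.GradedAlgebra.HomogeneousLocalization
import Mathlib.RingTheory.Ideal.Quotient.Operations

/-!
# Degree-zero localizations of a graded ring and quotients of its Veronese rings
-/

universe u

open DirectSum HomogeneousLocalization

namespace GrothLib.GradedAlg

variable {R A B : Type u} [CommRing R] [CommRing A] [Algebra R A] (𝒜 : ℕ → Submodule R A) [GradedAlgebra 𝒜]
  [CommRing B] [Algebra R B] (ℬ : ℕ → Submodule R B) [GradedAlgebra ℬ] {d : ℕ} (φ : B →ₐ[R] A)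

theorem mem_of_veronese (hdeg : ∀ n : ℕ, Submodule.map φ.toLinearMap (ℬ n) = 𝒜 (n * d)) {n : ℕ} {x : B}
    (hx : x ∈ ℬ n) : φ x ∈ 𝒜 (n * d) :=
  (hdeg n).le (Submodule.mem_map_of_mem hx)

variable (hdeg : ∀ n : ℕ, Submodule.map φ.toLinearMap (ℬ n) = 𝒜 (n * d)) {f' : B} (hf' : f' ∈ ℬ 1)

theorem mem_veronese_one (hdeg : ∀ n : ℕ, Submodule.map φ.toLinearMap (ℬ n) = 𝒜 (n * d)) (hf' : f' ∈ ℬ 1) :
    φ f' ∈ 𝒜 d := by
  simpa using mem_of_veronese 𝒜 ℬ φ hdeg hf'

/-- `x ↦ φ x / φ(f') ^ n` on the piece of degree `n`. -/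
noncomputable def dehomPart (n : ℕ) : ℬ n →+ Away 𝒜 (φ f') where
  toFun x := Away.mk 𝒜 (mem_veronese_one 𝒜 ℬ φ hdeg hf') n (φ x)
    (by rw [smul_eq_mul]; exact mem_of_veronese 𝒜 ℬ φ hdeg x.2)
  map_zero' := by
    apply val_injective
    simp only [ZeroMemClass.coe_zero, map_zero, Away.val_mk, Localization.mk_zero, val_zero]
  map_add' x y := by
    apply val_injective
    simp only [Submodule.coe_add, map_add, Away.val_mk, val_add, Localization.add_mk_self]

/-- The homomorphism from the Veronese ring to the degree-zero localization. -/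
noncomputable def dehom : B →+* Away 𝒜 (φ f') :=
  (DirectSum.toSemiring (dehomPart 𝒜 ℬ φ hdeg hf')
    (by
      apply val_injective
      simp [dehomPart, Away.val_mk, Localization.mk_one])
    (fun {i j} x y => by
      apply val_injective
      simp only [dehomPart, AddMonoidHom.coe_mk, ZeroHom.coe_mk, SetLike.coe_gMul, map_mul, Away.val_mk, val_mul,
        Localization.mk_mul]
      congr 1
      exact Subtype.ext (pow_add _ _ _))).comp (DirectSum.decomposeRingEquiv ℬ).toRingHom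

theorem val_dehom {n : ℕ} {x : B} (hx : x ∈ ℬ n) :
    (dehom 𝒜 ℬ φ hdeg hf' x).val =
      Localization.mk (φ x) ⟨φ f' ^ n, pow_mem (Submonoid.mem_powers (φ f')) n⟩ := by
  have h : (DirectSum.decomposeRingEquiv ℬ).toRingHom x = DirectSum.of (fun i => ℬ i) n ⟨x, hx⟩ :=
    DirectSum.decompose_of_mem ℬ hx
  rw [dehom, RingHom.comp_apply, h, DirectSum.toSemiring_of]
  exact Away.val_mk 𝒜 n (mem_veronese_one 𝒜 ℬ φ hdeg hf') _ _

theorem dehom_self : dehom 𝒜 ℬ φ hdeg hf' f' = 1 := by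
  apply val_injective
  rw [val_dehom 𝒜 ℬ φ hdeg hf' hf', val_one]
  have hs : (⟨φ f' ^ 1, pow_mem (Submonoid.mem_powers (φ f')) 1⟩ : Submonoid.powers (φ f')) =
      ⟨φ f', Submonoid.mem_powers _⟩ := Subtype.ext (pow_one _)
  rw [hs]
  exact Localization.mk_self (M := A) (S := Submonoid.powers (φ f')) ⟨φ f', Submonoid.mem_powers _⟩

theorem dehom_surjective : Function.Surjective (dehom 𝒜 ℬ φ hdeg hf') := by
  intro z
  obtain ⟨n, a, ha, rfl⟩ := Away.mk_surjective 𝒜 (mem_veronese_one 𝒜 ℬ φ hdeg hf') z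
  obtain ⟨x, hx, rfl⟩ := (hdeg n).ge (by simpa using ha)
  refine ⟨x, val_injective _ ?_⟩
  rw [val_dehom 𝒜 ℬ φ hdeg hf' hx, Away.val_mk]
  rfl

include hdeg hf' in
theorem ker_dehom (hφ : Function.Injective φ) :
    RingHom.ker (dehom 𝒜 ℬ φ hdeg hf') = Ideal.span {f' - 1} := by
  classical
  apply le_antisymm
  · intro x hx
    rw [RingHom.mem_ker] at hx
    let s := (DirectSum.decompose ℬ x).support
    let N := s.sup id
    let π := Ideal.Quotient.mk (Ideal.span {f' - 1})
    let y : B := ∑ i ∈ s, (DirectSum.decompose ℬ x i : B) * f' ^ (N - i)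
    have hy : y ∈ ℬ N := by
      refine sum_mem fun i hi => ?_
      have hiN : i ≤ N := Finset.le_sup (f := id) hi
      have h : (DirectSum.decompose ℬ x i : B) * f' ^ (N - i) ∈ ℬ (i + (N - i) • 1) :=
        SetLike.GradedMul.mul_mem (Subtype.coe_prop _) (SetLike.pow_mem_graded (N - i) hf')
      rwa [smul_eq_mul, mul_one, Nat.add_sub_cancel' hiN] at h
    have hπf : π f' = 1 := by
      rw [← map_one π]
      exact Ideal.Quotient.eq.2 (Ideal.mem_span_singleton_self _)
    have hπy : π y = π x := by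
      conv_rhs => rw [← DirectSum.sum_support_decompose ℬ x]
      simp only [y, map_sum, map_mul, map_pow, hπf, one_pow, mul_one]
      rfl
    have hdy : dehom 𝒜 ℬ φ hdeg hf' y = dehom 𝒜 ℬ φ hdeg hf' x := by
      conv_rhs => rw [← DirectSum.sum_support_decompose ℬ x]
      simp only [y, map_sum, map_mul, map_pow, dehom_self, one_pow, mul_one]
      rfl
    have h0 : Localization.mk (φ y) (⟨φ f' ^ N, pow_mem (Submonoid.mem_powers (φ f')) N⟩ :
        Submonoid.powers (φ f')) = Localization.mk 0 1 := by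
      rw [← val_dehom 𝒜 ℬ φ hdeg hf' hy, hdy, hx, val_zero, Localization.mk_zero]
    rw [Localization.mk_eq_mk_iff, Localization.r_iff_exists] at h0
    obtain ⟨⟨c, k, rfl⟩, hc⟩ := h0
    simp only [Submonoid.coe_one, one_mul, mul_zero] at hc
    have hky : f' ^ k * y = 0 := hφ (by rw [map_mul, map_pow, map_zero]; exact hc)
    have : π x = 0 := by
      have h2 : π (f' ^ k * y) = π y := by rw [map_mul, map_pow, hπf, one_pow, one_mul]
      rw [← hπy, ← h2, hky, map_zero]
    exact Ideal.Quotient.eq_zero_iff_mem.1 this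
  · rw [Ideal.span_le, Set.singleton_subset_iff, SetLike.mem_coe, RingHom.mem_ker, map_sub, map_one,
      dehom_self, sub_self]

/-- `A_(f) ≅ A^(d) / (f - 1)`. -/
noncomputable def awayEquivQuot (hφ : Function.Injective φ) :
    Away 𝒜 (φ f') ≃+* B ⧸ Ideal.span {f' - 1} :=
  ((Ideal.quotEquivOfEq (ker_dehom 𝒜 ℬ φ hdeg hf' hφ).symm).trans
    (RingHom.quotientKerEquivOfSurjective (dehom_surjective 𝒜 ℬ φ hdeg hf'))).symm

theorem awayEquivQuot_symm_mk (hφ : Function.Injective φ) (x : B) :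
    (awayEquivQuot 𝒜 ℬ φ hdeg hf' hφ).symm (Ideal.Quotient.mk _ x) = dehom 𝒜 ℬ φ hdeg hf' x := rfl

end GrothLib.GradedAlg
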