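import Groth.Agent.Lib.GradedAlg.VeroneseAway
import Groth.Agent.Lib.GradedAlg.Spectrum
import Mathlib.AlgebraicGeometry.ProjectiveSpectrum.Basic
import Mathlib.AlgebraicGeometry.Gluing

/-!
# `Proj` of a Veronese ring
-/

universe u

set_option maxHeartbeats 400000
set_option backward.isDefEq.respectTransparency false

open AlgebraicGeometry CategoryTheory DirectSum HomogeneousLocalization

namespace GrothLib.GradedAlg

variable {R A B : Type u} [CommRing R] [CommRing A] [Algebra R A] (𝒜 : ℕ → Submodule R A) [GradedAlgebra 𝒜]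
  [CommRing B] [Algebra R B] (ℬ : ℕ → Submodule R B) [GradedAlgebra ℬ] {d : ℕ} (φ : B →ₐ[R] A)
  (hdeg : ∀ n : ℕ, Submodule.map φ.toLinearMap (ℬ n) = 𝒜 (n * d))

/-- The image of a fraction of equal degrees. -/
def verNum (g : B) (c : NumDenSameDeg ℬ (Submonoid.powers g)) :
    NumDenSameDeg 𝒜 (Submonoid.powers (φ g)) where
  deg := c.deg * d
  num := ⟨φ c.num, mem_of_veronese 𝒜 ℬ φ hdeg c.num.2⟩
  den := ⟨φ c.den, mem_of_veronese 𝒜 ℬ φ hdeg c.den.2⟩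
  den_mem := by
    obtain ⟨k, hk⟩ := c.den_mem
    exact ⟨k, by simp only [← hk, map_pow]⟩

theorem val_mk_verNum (g : B) (c : NumDenSameDeg ℬ (Submonoid.powers g)) :
    (HomogeneousLocalization.mk (verNum 𝒜 ℬ φ hdeg g c)).val =
      Localization.awayMap φ.toRingHom g (HomogeneousLocalization.mk c).val := by
  rw [val_mk, val_mk]
  simp only [Localization.awayMap, IsLocalization.Away.map, Localization.mk_eq_mk', IsLocalization.map_mk',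
    AlgHom.toRingHom_eq_coe, RingHom.coe_coe]
  rfl

include hdeg in
theorem exists_val_eq (g : B) (y : Away ℬ g) :
    ∃ z : Away 𝒜 (φ g), z.val = Localization.awayMap φ.toRingHom g y.val := by
  obtain ⟨c, rfl⟩ := mk_surjective y
  exact ⟨_, val_mk_verNum 𝒜 ℬ φ hdeg g c⟩

/-- The map underlying `theta`. -/
noncomputable def thetaFun (g : B) (y : Away ℬ g) : Away 𝒜 (φ g) :=
  (exists_val_eq 𝒜 ℬ φ hdeg g y).choose

theorem val_thetaFun (g : B) (y : Away ℬ g) :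
    (thetaFun 𝒜 ℬ φ hdeg g y).val = Localization.awayMap φ.toRingHom g y.val :=
  (exists_val_eq 𝒜 ℬ φ hdeg g y).choose_spec

/-- `B_(g) ⟶ A_(φ g)`. -/
noncomputable def theta (g : B) : Away ℬ g →+* Away 𝒜 (φ g) where
  toFun := thetaFun 𝒜 ℬ φ hdeg g
  map_one' := val_injective _ (by rw [val_thetaFun, val_one, map_one, val_one])
  map_mul' x y := val_injective _ (by
    simp only [val_mul, val_thetaFun, map_mul])
  map_zero' := val_injective _ (by rw [val_thetaFun, val_zero, map_zero, val_zero])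
  map_add' x y := val_injective _ (by
    simp only [val_add, val_thetaFun, map_add])

theorem val_theta (g : B) (y : Away ℬ g) :
    (theta 𝒜 ℬ φ hdeg g y).val = Localization.awayMap φ.toRingHom g y.val :=
  val_thetaFun 𝒜 ℬ φ hdeg g y

theorem theta_mk (g : B) {n : ℕ} (hg : g ∈ ℬ n) (k : ℕ) (a : B) (ha : a ∈ ℬ (k • n)) :
    theta 𝒜 ℬ φ hdeg g (Away.mk ℬ hg k a ha) = Away.mk 𝒜 (mem_of_veronese 𝒜 ℬ φ hdeg hg) k (φ a)
      (by rw [smul_eq_mul, ← mul_assoc, ← smul_eq_mul]; exact mem_of_veronese 𝒜 ℬ φ hdeg ha) := by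
  apply val_injective
  rw [val_theta, Away.val_mk, Away.val_mk]
  simp only [Localization.awayMap, IsLocalization.Away.map, Localization.mk_eq_mk', IsLocalization.map_mk',
    AlgHom.toRingHom_eq_coe, RingHom.coe_coe, map_pow]

theorem theta_bijective (hφ : Function.Injective φ) (g : B) {n : ℕ} (hg : g ∈ ℬ n) :
    Function.Bijective (theta 𝒜 ℬ φ hdeg g) := by
  constructor
  · rw [injective_iff_map_eq_zero]
    intro y hy
    obtain ⟨k, a, ha, rfl⟩ := Away.mk_surjective ℬ hg y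
    rw [theta_mk 𝒜 ℬ φ hdeg g hg] at hy
    have h := congrArg val hy
    rw [Away.val_mk, val_zero, ← Localization.mk_zero 1, Localization.mk_eq_mk_iff,
      Localization.r_iff_exists] at h
    obtain ⟨⟨c, j, rfl⟩, hc⟩ := h
    simp only [Submonoid.coe_one, one_mul, mul_zero] at hc
    have hz : g ^ j * a = 0 := hφ (by rw [map_mul, map_pow, map_zero]; exact hc)
    apply val_injective
    rw [Away.val_mk, val_zero, ← Localization.mk_zero 1, Localization.mk_eq_mk_iff,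
      Localization.r_iff_exists]
    exact ⟨⟨g ^ j, j, rfl⟩, by simpa using hz⟩
  · intro z
    obtain ⟨k, a, ha, rfl⟩ := Away.mk_surjective 𝒜 (mem_of_veronese 𝒜 ℬ φ hdeg hg) z
    rw [smul_eq_mul, ← mul_assoc, ← hdeg] at ha
    obtain ⟨x, hx, rfl⟩ := ha
    exact ⟨Away.mk ℬ hg k x (by rw [smul_eq_mul]; exact hx), theta_mk 𝒜 ℬ φ hdeg g hg ..⟩

theorem theta_awayMap {n m : ℕ} {f g x : B} (hf : f ∈ ℬ n) (hg : g ∈ ℬ m) (hx : x = f * g) :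
    (theta 𝒜 ℬ φ hdeg x).comp (awayMap ℬ hg hx) =
      (awayMap 𝒜 (mem_of_veronese 𝒜 ℬ φ hdeg hg) (show φ x = φ f * φ g by rw [hx, map_mul])).comp
        (theta 𝒜 ℬ φ hdeg f) := by
  ext y
  obtain ⟨k, a, ha, rfl⟩ := Away.mk_surjective ℬ hf y
  simp only [RingHom.comp_apply, awayMap_mk, theta_mk 𝒜 ℬ φ hdeg f hf,
    theta_mk 𝒜 ℬ φ hdeg x (hx ▸ SetLike.mul_mem_graded hf hg)]
  simp only [val_awayMap_mk, Away.val_mk, map_mul, map_pow]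

variable (hd : 0 < d)

include hdeg in
theorem exists_notMem (x : Proj 𝒜) : ∃ j : (n : ℕ+) × ℬ n, x ∈ Proj.basicOpen 𝒜 (φ (j.2 : B)) := by
  classical
  by_contra! H
  refine x.not_irrelevant_le ((HomogeneousIdeal.toIdeal_irrelevant_le _).mpr fun m hm a ha => ?_)
  obtain ⟨b, hb, hφb⟩ := (hdeg m).ge
    (show a ^ d ∈ 𝒜 (m * d) from by
      rw [mul_comm, ← smul_eq_mul]; exact SetLike.pow_mem_graded d ha)
  have := H ⟨⟨m, hm⟩, b, hb⟩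
  rw [Proj.mem_basicOpen, not_not] at this
  rw [show φ b = a ^ d from hφb] at this
  exact x.isPrime.mem_of_pow_mem d this

/-- The charts `D₊(φ g)` of `Proj 𝒜`. -/
noncomputable def verCover : (Proj 𝒜).AffineOpenCover where
  I₀ := (n : ℕ+) × ℬ n
  X j := .of (Away 𝒜 (φ (j.2 : B)))
  f j := Proj.awayι 𝒜 _ (mem_of_veronese 𝒜 ℬ φ hdeg j.2.2) (Nat.mul_pos j.1.pos hd)
  idx x := (exists_notMem 𝒜 ℬ φ hdeg x).choose
  covers x := by
    change x ∈ (Proj.awayι 𝒜 _ _ _).opensRange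
    rw [Proj.opensRange_awayι]
    exact (exists_notMem 𝒜 ℬ φ hdeg x).choose_spec

theorem verHom_compat {n m : ℕ} (hn : 0 < n) (hm : 0 < m) (f g : B) (hf : f ∈ ℬ n) (hg : g ∈ ℬ m) :
    Limits.pullback.fst (Proj.awayι 𝒜 (φ f) (mem_of_veronese 𝒜 ℬ φ hdeg hf) (Nat.mul_pos hn hd))
          (Proj.awayι 𝒜 (φ g) (mem_of_veronese 𝒜 ℬ φ hdeg hg) (Nat.mul_pos hm hd)) ≫
        Spec.map (CommRingCat.ofHom (theta 𝒜 ℬ φ hdeg f)) ≫ Proj.awayι ℬ f hf hn =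
      Limits.pullback.snd _ _ ≫ Spec.map (CommRingCat.ofHom (theta 𝒜 ℬ φ hdeg g)) ≫ Proj.awayι ℬ g hg hm := by
  rw [← cancel_epi (Proj.pullbackAwayιIso 𝒜 (mem_of_veronese 𝒜 ℬ φ hdeg hf) (Nat.mul_pos hn hd)
    (mem_of_veronese 𝒜 ℬ φ hdeg hg) (Nat.mul_pos hm hd) (map_mul φ f g)).inv]
  rw [Proj.pullbackAwayιIso_inv_fst_assoc, Proj.pullbackAwayιIso_inv_snd_assoc]
  simp only [← Spec.map_comp_assoc, ← CommRingCat.ofHom_comp]
  rw [← theta_awayMap 𝒜 ℬ φ hdeg hf hg rfl, ← theta_awayMap 𝒜 ℬ φ hdeg hg hf (mul_comm f g)]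
  simp only [CommRingCat.ofHom_comp, Spec.map_comp, Category.assoc]
  rw [Proj.SpecMap_awayMap_awayι, Proj.SpecMap_awayMap_awayι]
  rfl

/-- `Proj 𝒜 ⟶ Proj ℬ`. -/
noncomputable def verHom : Proj 𝒜 ⟶ Proj ℬ :=
  (verCover 𝒜 ℬ φ hdeg hd).openCover.glueMorphisms
    (fun j => Spec.map (CommRingCat.ofHom (theta 𝒜 ℬ φ hdeg (j.2 : B))) ≫ Proj.awayι ℬ _ j.2.2 j.1.pos)
    (fun j k => verHom_compat 𝒜 ℬ φ hdeg hd j.1.pos k.1.pos _ _ j.2.2 k.2.2)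

theorem cover_f_verHom (j : (verCover 𝒜 ℬ φ hdeg hd).openCover.I₀) :
    (verCover 𝒜 ℬ φ hdeg hd).openCover.f j ≫ verHom 𝒜 ℬ φ hdeg hd =
      Spec.map (CommRingCat.ofHom (theta 𝒜 ℬ φ hdeg (j.2 : B))) ≫ Proj.awayι ℬ _ j.2.2 j.1.pos := by
  exact Scheme.Cover.ι_glueMorphisms (verCover 𝒜 ℬ φ hdeg hd).openCover _ _ j

theorem awayι_verHom {n : ℕ} (hn : 0 < n) (g : B) (hg : g ∈ ℬ n) :
    Proj.awayι 𝒜 (φ g) (mem_of_veronese 𝒜 ℬ φ hdeg hg) (Nat.mul_pos hn hd) ≫ verHom 𝒜 ℬ φ hdeg hd =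
      Spec.map (CommRingCat.ofHom (theta 𝒜 ℬ φ hdeg g)) ≫ Proj.awayι ℬ g hg hn :=
  cover_f_verHom 𝒜 ℬ φ hdeg hd (⟨⟨n, hn⟩, g, hg⟩ : (n : ℕ+) × ℬ n)

variable (hφ : Function.Injective φ)

/-- The inverse of `theta` on a chart. -/
noncomputable def thetaInv (g : B) {n : ℕ} (hg : g ∈ ℬ n) : Away 𝒜 (φ g) →+* Away ℬ g :=
  (RingEquiv.ofBijective _ (theta_bijective 𝒜 ℬ φ hdeg hφ g hg)).symm.toRingHom

theorem thetaInv_comp (g : B) {n : ℕ} (hg : g ∈ ℬ n) :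
    (thetaInv 𝒜 ℬ φ hdeg hφ g hg).comp (theta 𝒜 ℬ φ hdeg g) = RingHom.id _ :=
  RingHom.ext fun x => (RingEquiv.ofBijective _ (theta_bijective 𝒜 ℬ φ hdeg hφ g hg)).symm_apply_apply x

theorem comp_thetaInv (g : B) {n : ℕ} (hg : g ∈ ℬ n) :
    (theta 𝒜 ℬ φ hdeg g).comp (thetaInv 𝒜 ℬ φ hdeg hφ g hg) = RingHom.id _ :=
  RingHom.ext fun x => (RingEquiv.ofBijective _ (theta_bijective 𝒜 ℬ φ hdeg hφ g hg)).apply_symm_apply x

theorem awayMap_thetaInv {n m : ℕ} {f g x : B} (hf : f ∈ ℬ n) (hg : g ∈ ℬ m) (hx : x = f * g)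
    (hxm : x ∈ ℬ (n + m)) :
    (thetaInv 𝒜 ℬ φ hdeg hφ x hxm).comp
        (awayMap 𝒜 (mem_of_veronese 𝒜 ℬ φ hdeg hg) (show φ x = φ f * φ g by rw [hx, map_mul])) =
      (awayMap ℬ hg hx).comp (thetaInv 𝒜 ℬ φ hdeg hφ f hf) := by
  ext z
  obtain ⟨y, rfl⟩ := (theta_bijective 𝒜 ℬ φ hdeg hφ f hf).2 z
  have h1 := DFunLike.congr_fun (theta_awayMap 𝒜 ℬ φ hdeg hf hg hx) y
  have h2 := DFunLike.congr_fun (thetaInv_comp 𝒜 ℬ φ hdeg hφ f hf) y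
  have h3 := DFunLike.congr_fun (thetaInv_comp 𝒜 ℬ φ hdeg hφ x hxm) (awayMap ℬ hg hx y)
  simp only [RingHom.comp_apply, RingHom.id_apply] at h1 h2 h3 ⊢
  rw [← h1, h3, h2]

theorem verInv_compat {n m : ℕ} (hn : 0 < n) (hm : 0 < m) (f g : B) (hf : f ∈ ℬ n) (hg : g ∈ ℬ m) :
    Limits.pullback.fst (Proj.awayι ℬ f hf hn) (Proj.awayι ℬ g hg hm) ≫
        Spec.map (CommRingCat.ofHom (thetaInv 𝒜 ℬ φ hdeg hφ f hf)) ≫
          Proj.awayι 𝒜 (φ f) (mem_of_veronese 𝒜 ℬ φ hdeg hf) (Nat.mul_pos hn hd) =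
      Limits.pullback.snd _ _ ≫ Spec.map (CommRingCat.ofHom (thetaInv 𝒜 ℬ φ hdeg hφ g hg)) ≫
          Proj.awayι 𝒜 (φ g) (mem_of_veronese 𝒜 ℬ φ hdeg hg) (Nat.mul_pos hm hd) := by
  rw [← cancel_epi (Proj.pullbackAwayιIso ℬ hf hn hg hm (rfl : f * g = f * g)).inv]
  rw [Proj.pullbackAwayιIso_inv_fst_assoc, Proj.pullbackAwayιIso_inv_snd_assoc]
  simp only [← Spec.map_comp_assoc, ← CommRingCat.ofHom_comp]
  rw [← awayMap_thetaInv 𝒜 ℬ φ hdeg hφ hf hg rfl (SetLike.mul_mem_graded hf hg),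
    ← awayMap_thetaInv 𝒜 ℬ φ hdeg hφ hg hf (mul_comm f g)
      (mul_comm g f ▸ SetLike.mul_mem_graded hg hf)]
  simp only [CommRingCat.ofHom_comp, Spec.map_comp, Category.assoc]
  rw [Proj.SpecMap_awayMap_awayι, Proj.SpecMap_awayMap_awayι]
  rfl

/-- `Proj ℬ ⟶ Proj 𝒜`. -/
noncomputable def verInv : Proj ℬ ⟶ Proj 𝒜 :=
  (Proj.affineOpenCover ℬ).openCover.glueMorphisms
    (fun (j : (n : ℕ+) × ℬ n) => Spec.map (CommRingCat.ofHom (thetaInv 𝒜 ℬ φ hdeg hφ (j.2 : B) j.2.2)) ≫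
      Proj.awayι 𝒜 _ (mem_of_veronese 𝒜 ℬ φ hdeg j.2.2) (Nat.mul_pos j.1.pos hd))
    (fun (j k : (n : ℕ+) × ℬ n) => verInv_compat 𝒜 ℬ φ hdeg hd hφ j.1.pos k.1.pos _ _ j.2.2 k.2.2)

theorem cover_f_verInv (j : (n : ℕ+) × ℬ n) :
    (Proj.affineOpenCover ℬ).openCover.f j ≫ verInv 𝒜 ℬ φ hdeg hd hφ =
      Spec.map (CommRingCat.ofHom (thetaInv 𝒜 ℬ φ hdeg hφ (j.2 : B) j.2.2)) ≫
        Proj.awayι 𝒜 _ (mem_of_veronese 𝒜 ℬ φ hdeg j.2.2) (Nat.mul_pos j.1.pos hd) := by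
  exact Scheme.Cover.ι_glueMorphisms (Proj.affineOpenCover ℬ).openCover _ _ j

theorem awayι_verInv {n : ℕ} (hn : 0 < n) (g : B) (hg : g ∈ ℬ n) :
    Proj.awayι ℬ g hg hn ≫ verInv 𝒜 ℬ φ hdeg hd hφ =
      Spec.map (CommRingCat.ofHom (thetaInv 𝒜 ℬ φ hdeg hφ g hg)) ≫
        Proj.awayι 𝒜 (φ g) (mem_of_veronese 𝒜 ℬ φ hdeg hg) (Nat.mul_pos hn hd) :=
  cover_f_verInv 𝒜 ℬ φ hdeg hd hφ (⟨⟨n, hn⟩, g, hg⟩ : (n : ℕ+) × ℬ n)

/-- `Proj 𝒜 ≅ Proj 𝒜^(d)`. -/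
noncomputable def verIso : Proj 𝒜 ≅ Proj ℬ where
  hom := verHom 𝒜 ℬ φ hdeg hd
  inv := verInv 𝒜 ℬ φ hdeg hd hφ
  hom_inv_id := (verCover 𝒜 ℬ φ hdeg hd).openCover.hom_ext _ _ fun (j : (n : ℕ+) × ℬ n) => by
    change Proj.awayι 𝒜 (φ (j.2 : B)) (mem_of_veronese 𝒜 ℬ φ hdeg j.2.2) (Nat.mul_pos j.1.pos hd) ≫ _ =
      Proj.awayι 𝒜 (φ (j.2 : B)) (mem_of_veronese 𝒜 ℬ φ hdeg j.2.2) (Nat.mul_pos j.1.pos hd) ≫ _
    rw [reassoc_of% (awayι_verHom 𝒜 ℬ φ hdeg hd j.1.pos (j.2 : B) j.2.2), awayι_verInv,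
      ← Spec.map_comp_assoc, ← CommRingCat.ofHom_comp, comp_thetaInv, CommRingCat.ofHom_id, Spec.map_id,
      Category.id_comp, Category.comp_id]
  inv_hom_id := (Proj.affineOpenCover ℬ).openCover.hom_ext _ _ fun (j : (n : ℕ+) × ℬ n) => by
    change Proj.awayι ℬ (j.2 : B) j.2.2 j.1.pos ≫ _ = Proj.awayι ℬ (j.2 : B) j.2.2 j.1.pos ≫ _
    rw [reassoc_of% (awayι_verInv 𝒜 ℬ φ hdeg hd hφ j.1.pos (j.2 : B) j.2.2), awayι_verHom,
      ← Spec.map_comp_assoc, ← CommRingCat.ofHom_comp, thetaInv_comp, CommRingCat.ofHom_id, Spec.map_id,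
      Category.id_comp, Category.comp_id]

theorem preimage_basicOpen_verIso {n : ℕ} (hn : 0 < n) (g : B) (hg : g ∈ ℬ n) (p : Proj 𝒜) :
    (verIso 𝒜 ℬ φ hdeg hd hφ).hom.base p ∈ Proj.basicOpen ℬ g ↔ p ∈ Proj.basicOpen 𝒜 (φ g) := by
  rw [← Proj.opensRange_awayι ℬ g hg hn,
    ← Proj.opensRange_awayι 𝒜 (φ g) (mem_of_veronese 𝒜 ℬ φ hdeg hg) (Nat.mul_pos hn hd)]
  constructor
  · rintro ⟨q, hq⟩
    refine ⟨(Spec.map (CommRingCat.ofHom (thetaInv 𝒜 ℬ φ hdeg hφ g hg))).base q, ?_⟩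
    change (Spec.map _ ≫ Proj.awayι 𝒜 (φ g) _ _).base q = p
    rw [← awayι_verInv 𝒜 ℬ φ hdeg hd hφ hn g hg, Scheme.Hom.comp_apply, hq]
    change ((verIso 𝒜 ℬ φ hdeg hd hφ).hom ≫ (verIso 𝒜 ℬ φ hdeg hd hφ).inv).base p = p
    rw [Iso.hom_inv_id]
    rfl
  · rintro ⟨q, rfl⟩
    refine ⟨(Spec.map (CommRingCat.ofHom (theta 𝒜 ℬ φ hdeg g))).base q, ?_⟩
    change (Spec.map _ ≫ Proj.awayι ℬ g hg hn).base q = _
    rw [← awayι_verHom 𝒜 ℬ φ hdeg hd hn g hg]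
    rfl

theorem verIso_apply (p : Proj 𝒜) :
    ((verIso 𝒜 ℬ φ hdeg hd hφ).hom.base p).asHomogeneousIdeal.toIdeal =
      Ideal.comap φ p.asHomogeneousIdeal.toIdeal := by
  classical
  set P := (verIso 𝒜 ℬ φ hdeg hd hφ).hom.base p
  have hpos : ∀ {n : ℕ}, 0 < n → ∀ b ∈ ℬ n,
      (b ∈ P.asHomogeneousIdeal.toIdeal ↔ φ b ∈ p.asHomogeneousIdeal.toIdeal) := by
    intro n hn b hb
    have h := preimage_basicOpen_verIso 𝒜 ℬ φ hdeg hd hφ hn b hb p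
    rw [Proj.mem_basicOpen, Proj.mem_basicOpen] at h
    exact not_iff_not.1 h
  have hom : ∀ {n : ℕ}, ∀ b ∈ ℬ n,
      (b ∈ P.asHomogeneousIdeal.toIdeal ↔ φ b ∈ p.asHomogeneousIdeal.toIdeal) := by
    intro n b hb
    obtain ⟨⟨m, g, hg⟩, hgp⟩ := exists_notMem 𝒜 ℬ φ hdeg p
    have hgP := (preimage_basicOpen_verIso 𝒜 ℬ φ hdeg hd hφ m.pos g hg p).2 hgp
    rw [Proj.mem_basicOpen] at hgp hgP
    have h := hpos (show 0 < n + m by have := m.pos; omega) (b * g) (SetLike.mul_mem_graded hb hg)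
    rw [map_mul, P.isPrime.mul_mem_iff_mem_or_mem, p.isPrime.mul_mem_iff_mem_or_mem] at h
    exact ⟨fun hb' => (h.1 (.inl hb')).resolve_right hgp, fun hb' => (h.2 (.inl hb')).resolve_right hgP⟩
  ext x
  rw [Ideal.mem_comap]
  constructor
  · intro hx
    rw [← DirectSum.sum_support_decompose ℬ x, map_sum]
    exact sum_mem fun i _ => (hom _ (Subtype.coe_prop _)).1 (P.asHomogeneousIdeal.isHomogeneous i hx)
  · intro hx
    rw [← DirectSum.sum_support_decompose ℬ x]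
    refine sum_mem fun i _ => (hom _ (Subtype.coe_prop _)).2 ?_
    have key : (DirectSum.decompose 𝒜 (φ x) (i * d) : A) = φ (DirectSum.decompose ℬ x i : B) := by
      conv_lhs => rw [← DirectSum.sum_support_decompose ℬ x, map_sum, DirectSum.decompose_sum]
      rw [DFinsupp.finset_sum_apply, AddSubmonoidClass.coe_finset_sum, Finset.sum_eq_single i]
      · exact DirectSum.decompose_of_mem_same 𝒜 (mem_of_veronese 𝒜 ℬ φ hdeg (Subtype.coe_prop _))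
      · intro j _ hj
        exact DirectSum.decompose_of_mem_ne 𝒜 (mem_of_veronese 𝒜 ℬ φ hdeg (Subtype.coe_prop _))
          fun h => hj (Nat.eq_of_mul_eq_mul_right hd h)
      · intro hi
        rw [DFinsupp.notMem_support_iff.1 hi, ZeroMemClass.coe_zero, map_zero,
          DirectSum.decompose_zero, DirectSum.zero_apply, ZeroMemClass.coe_zero]
    have h2 := p.asHomogeneousIdeal.isHomogeneous (i * d) hx
    rwa [key] at h2

end GrothLib.GradedAlg
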